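import Cfsg.Agent.Lib.U62Cover.Fusion
import Cfsg.Agent.Lib.FischerPresented.U62Field
import Cfsg.Agent.Lib.Fi22Cover.Transfer

/-!
The centraliser as the double cover in any universe, and the Thompson subgroup of its Sylow subgroups.
-/

set_option autoImplicit false

namespace Cfsg.Agent.U62Cover

open Cfsg.Agent.CosetCert
open Cfsg.Agent.CosetData
open Cfsg.Agent.FischerPresented
open Cfsg.Agent.FischerPresented.Mult6 (PU)
open Cfsg.Agent.FischerPresented.U62 (hgH)

universe u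

/-- The hypotheses in any universe. -/
theorem main_univ {G : Type u} [Group G] [Finite G] {d : G}
    (σ : ↥(Subgroup.centralizer ({d} : Set G)) →* PU) (hs : Function.Surjective σ)
    (hd : orderOf d = 2) (hσd : ∀ x : ↥(Subgroup.centralizer ({d} : Set G)), (x : G) = d → σ x = 1)
    (hker : ∀ x, σ x = 1 → (x : G) = 1 ∨ (x : G) = d)
    (hperf : commutator ↥(Subgroup.centralizer ({d} : Set G)) = ⊤)
    (hnwc : ∃ g : G, g * d * g⁻¹ ∈ Subgroup.centralizer ({d} : Set G) ∧ g * d * g⁻¹ ≠ d) :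
    Concl G d := by
  have hd2 : d * d = 1 := by rw [← sq, ← hd, pow_orderOf_eq_one]
  have hd1 : d ≠ 1 := fun h => by rw [h, orderOf_one] at hd; norm_num at hd
  have hmem : d ∈ Subgroup.centralizer ({d} : Set G) := mem_cz.2 rfl
  let r : Shrink.{0} ↥(Subgroup.centralizer ({d} : Set G)) ≃* ↥(Subgroup.centralizer ({d} : Set G)) :=
    Shrink.mulEquiv
  have : Finite (Shrink.{0} ↥(Subgroup.centralizer ({d} : Set G))) := Finite.of_equiv _ r.symm.toEquiv
  obtain ⟨ψ, hψ⟩ := exists_iso (σ.comp r.toMonoidHom) (r.symm ⟨d, hmem⟩) (hs.comp r.surjective)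
    (r.injective (by rw [map_mul, r.apply_symm_apply, map_one]; exact Subtype.ext hd2))
    (fun h => hd1 (by simpa using congrArg (fun t => ((r t : ↥(Subgroup.centralizer ({d} : Set G))) : G)) h))
    (by rw [MonoidHom.comp_apply, MulEquiv.coe_toMonoidHom, r.apply_symm_apply]; exact hσd _ rfl)
    (fun x => r.injective (by
      rw [map_mul, map_mul, r.apply_symm_apply]
      exact Subtype.ext (mem_cz.1 (r x).2).symm))
    (fun x hx => (hker (r x) hx).imp (fun h => r.injective (Subtype.ext (h.trans (by rw [map_one]; rfl))))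
      (fun h => r.injective (Subtype.ext (h.trans (by rw [r.apply_symm_apply])))))
    (by rw [← Subgroup.map_top_of_surjective r.symm.toMonoidHom r.symm.surjective, ← hperf, commutator_def,
      commutator_def, Subgroup.map_commutator, Subgroup.map_top_of_surjective r.symm.toMonoidHom r.symm.surjective])
  refine main (r.symm.trans ψ) ?_ hd2 hd1 hnwc
  show ((r (ψ.symm (hgH 0)) : ↥(Subgroup.centralizer ({d} : Set G))) : G) = d
  rw [← hψ, ψ.symm_apply_apply, r.apply_symm_apply]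

/-- The Thompson subgroup of a Sylow subgroup of the centraliser. -/
theorem thompson {G : Type u} [Group G] [Finite G] {d : G} (h : Concl G d)
    (S : Sylow 2 ↥(Subgroup.centralizer ({d} : Set G))) (A : Subgroup G)
    (hA : A = (Cfsg.thompsonSubgroupOf 2 (S : Subgroup ↥(Subgroup.centralizer ({d} : Set G)))).map
      (Subgroup.centralizer ({d} : Set G)).subtype) :
    Cfsg.IsElementaryAbelian 2 A ∧ Nat.card A = 2 ^ 10 ∧ Set.ncard {x : G | x ∈ A ∧ IsConj d x} = 22 ∧
      ∀ x ∈ A, ∀ y ∈ A, IsConj d x → IsConj d y → ∃ n ∈ Subgroup.normalizer (A : Set G), n * x * n⁻¹ = y := by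
  obtain ⟨h1, ⟨B, hBC, hBe, hBc⟩, h3⟩ := h
  revert S A hA
  set C := Subgroup.centralizer ({d} : Set G)
  intro S A hA
  have : Fact (Nat.Prime 2) := ⟨Nat.prime_two⟩
  -- a member inside the given Sylow subgroup
  obtain ⟨P, hP⟩ := ((IsPGroup.of_card hBc).of_equiv (Subgroup.subgroupOfEquivOfLe hBC).symm :
    IsPGroup 2 (B.subgroupOf C)).exists_le_sylow
  obtain ⟨c, hc⟩ := MulAction.exists_smul_eq ↥C P S
  set m := MulAut.conj (c : G)
  set B' := B.map m.toMonoidHom
  set T := (S : Subgroup ↥C).map C.subtype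
  have hB'e : Cfsg.IsElementaryAbelian 2 B' := Fi22Cover.elementary_map_equiv m hBe
  have hB'c : Nat.card B' = 2 ^ 10 := (Subgroup.card_map_of_injective m.injective).trans hBc
  have hB'T : B' ≤ T := by
    rintro _ ⟨x, hx, rfl⟩
    refine ⟨c * ⟨x, hBC hx⟩ * c⁻¹, ?_, rfl⟩
    show c * ⟨x, hBC hx⟩ * c⁻¹ ∈ (S : Subgroup ↥C)
    rw [← hc]
    exact ⟨⟨x, hBC hx⟩, hP hx, rfl⟩
  have hTC : T ≤ C := Subgroup.map_subtype_le _
  have hT2 : IsPGroup 2 T := S.2.map _
  set SS := (S : Subgroup ↥C)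
  let ι : ↥SS →* G := C.subtype.comp SS.subtype
  have hι : Function.Injective ι := C.subtype_injective.comp SS.subtype_injective
  have hrange : ι.range = T := by
    rw [MonoidHom.range_comp, Subgroup.range_subtype]
  have hel : ∀ D : Subgroup ↥SS, Cfsg.IsElementaryAbelian 2 D → Cfsg.IsElementaryAbelian 2 (D.map ι) := by
    intro D hD
    refine ⟨⟨⟨fun x y => ?_⟩⟩, ?_⟩
    · obtain ⟨a, ha, ea⟩ := x.2
      obtain ⟨b, hb, eb⟩ := y.2
      refine Subtype.ext ?_
      rw [Subgroup.coe_mul, Subgroup.coe_mul, ← ea, ← eb, ← map_mul, ← map_mul]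
      exact congrArg ι (congrArg Subtype.val (hD.1.is_comm.comm ⟨a, ha⟩ ⟨b, hb⟩))
    · rintro _ ⟨a, ha, rfl⟩
      rw [← map_pow, hD.2 a ha, map_one]
  set B₀ := B'.comap ι
  have hmap : B₀.map ι = B' := Subgroup.map_comap_eq_self (hrange ▸ hB'T)
  have hB₀e : Cfsg.IsElementaryAbelian 2 B₀ := by
    refine ⟨⟨⟨fun x y => Subtype.ext (hι ?_)⟩⟩, fun x hx => hι ?_⟩
    · rw [Subgroup.coe_mul, Subgroup.coe_mul, map_mul, map_mul]
      exact congrArg Subtype.val (hB'e.1.is_comm.comm (⟨_, x.2⟩ : B') ⟨_, y.2⟩)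
    · rw [map_pow, map_one]; exact hB'e.2 _ hx
  have hB₀c : Nat.card B₀ = 2 ^ 10 := by rw [← Subgroup.card_map_of_injective hι, hmap, hB'c]
  have hbound : ∀ D : Subgroup ↥SS, Cfsg.IsElementaryAbelian 2 D →
      Nat.card D ≤ 2 ^ 10 ∧ (Nat.card D = 2 ^ 10 → D.map ι = B') := by
    intro D hD
    obtain ⟨a, b⟩ := h1 T hTC hT2 (D.map ι) B' (hrange ▸ Subgroup.map_le_range ι D) hB'T (hel D hD) hB'e
    rw [Subgroup.card_map_of_injective hι] at a b
    exact ⟨a, fun e => b e hB'c⟩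
  have hmax : Cfsg.maxElementaryAbelianSubgroups 2 ↥SS = {B₀} := by
    ext D
    simp only [Cfsg.maxElementaryAbelianSubgroups, Set.mem_ofPred_eq, Set.mem_singleton_iff]
    constructor
    · rintro ⟨hD, hmax⟩
      have := hmax B₀ hB₀e
      rw [hB₀c] at this
      rw [← Subgroup.comap_map_eq_self_of_injective hι D, (hbound D hD).2 (le_antisymm (hbound D hD).1 this)]
    · rintro rfl
      exact ⟨hB₀e, fun E hE => hB₀c ▸ (hbound E hE).1⟩
  have hA : A = B' := by
    rw [hA, Cfsg.thompsonSubgroupOf, Cfsg.thompsonSubgroup]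
    show ((sSup (Cfsg.maxElementaryAbelianSubgroups 2 ↥SS)).map SS.subtype).map C.subtype = B'
    rw [hmax, sSup_singleton, Subgroup.map_map]
    exact hmap
  rw [hA]
  exact ⟨hB'e, hB'c, h3 B' (hB'T.trans hTC) hB'e hB'c⟩

end Cfsg.Agent.U62Cover
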