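import Cfsg.Agent.Lib.U62Cover.Iso
import Cfsg.Agent.Lib.Fi22Cover.Space

/-!
The 2^10 in the point stabiliser of the presented Fi22, its 22 transpositions as vectors, and two elements
normalising it.
-/

set_option autoImplicit false
set_option maxRecDepth 100000

namespace Cfsg.Agent.U62Cover

open Cfsg.Agent.CosetCert
open Cfsg.Agent.CosetData
open Cfsg.Agent.FischerPresented
open Cfsg.Agent.FischerPresented.Out22 (hm tr fix_iff)
open Cfsg.Agent.FischerPresented.U62 (hgH)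
open Cfsg.Agent.Fi22Local (el wok apt)

local notation "G₀" => Setup.G Fi22B.setup
local notation "wp" => wprod (Setup.gen Fi22B.setup)

/-- The element moving the first clique to this one. -/
noncomputable def τ : G₀ := el t0W

/-- The vector of a transposition. -/
def vt (i : ℕ) : ℕ := v10.getD i 0

/-- The element with given coordinates. -/
noncomputable def va (a : ℕ) : G₀ := τ * Fi22Two.sys.va a * τ⁻¹

theorem va_xor (a b : ℕ) : va (a ^^^ b) = va a * va b := by
  rw [va, va, va, TwoCert.Sys.va_xor]; group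

theorem va_zero : va 0 = 1 := by rw [va, TwoCert.Sys.va_zero]; group

theorem va_sq (a : ℕ) : va a * va a = 1 := by rw [← va_xor, Nat.xor_self, va_zero]

theorem va_comm (a b : ℕ) : va a * va b = va b * va a := by rw [← va_xor, ← va_xor, Nat.xor_comm]

theorem va_inj {a b : ℕ} (ha : a < 1024) (hb : b < 1024) (h : va a = va b) : a = b :=
  Fi22Two.sys.va_inj ha hb (mul_left_cancel (mul_right_cancel h))

theorem t0_ok : (wok t0W && (List.range 22).all fun i =>
    Nat.beq (Fi22Local.act t0W (Fi22Cover.qs.getD i 0)) (qn.getD i 0)) = true := by decide +kernel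

theorem vt_ok : ((List.range 22).all fun i =>
    Fi22Two.eqW (Fi22Cover.pw i) (TwoCert.words Fi22Two.basisW (vt i)) && Nat.blt (vt i) 1024) = true := by
  decide +kernel

theorem qp_move {i : ℕ} (hi : i < 22) : hm τ (Fi22Cover.qp i) = qp i := by
  have h := t0_ok
  simp only [Bool.and_eq_true, List.all_eq_true, List.mem_range, Nat.beq_eq] at h
  have hq := List.all_eq_true.1 Fi22Cover.qs_ok i (List.mem_range.2 hi)
  simp only [Bool.and_eq_true, Nat.blt_eq] at hq
  refine Fin.ext ?_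
  rw [qp_val hi, ← h.2 i hi, ← Fi22Local.apt_of_lt _ (Fi22Cover.qp i).2, τ,
    Fi22Local.apt_el h.1 (Fi22Cover.qp i).2]
  show Fi22Local.act t0W (Fi22Cover.qs.getD i 0 % 3510) = _
  rw [Nat.mod_eq_of_lt hq.1.1]

theorem vt_lt {i : ℕ} (hi : i < 22) : vt i < 1024 := by
  have h := List.all_eq_true.1 vt_ok i (List.mem_range.2 hi)
  rw [Bool.and_eq_true, Nat.blt_eq] at h
  exact h.2

theorem old_eq {i : ℕ} (hi : i < 22) : tr (Fi22Cover.qp i) = Fi22Two.sys.va (vt i) := by
  have h := List.all_eq_true.1 vt_ok i (List.mem_range.2 hi)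
  rw [Bool.and_eq_true] at h
  rw [(Fi22Cover.tr_qp hi).1, Fi22Two.va_eq]
  exact Fi22Two.eq_of_eqW h.1

theorem T_eq {i : ℕ} (hi : i < 22) : tr (qp i) = va (vt i) := by
  rw [← qp_move hi, Out22.tr_hom, old_eq hi, va]

theorem qp_zero : qp 0 = (0 : Fin 3510) := Fin.ext (qp_val (by norm_num))

theorem va_four : va 4 = el [0] := by
  rw [show (4 : ℕ) = vt 0 from rfl, ← T_eq (by norm_num), qp_zero]
  exact Out22.tr_word (v := []) (p := (0 : Fin 3510)) rfl (by decide +kernel)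

theorem va_mem (a : ℕ) : va a ∈ Fi22.H := by
  refine (Out22.mem_H_iff _).2 ((fix_iff _ _).2 ?_)
  rw [← qp_zero, T_eq (by norm_num)]
  exact va_comm a _

/-- The element of the stabiliser with given coordinates. -/
noncomputable def VA (a : ℕ) : Fi22.H := ⟨va a, va_mem a⟩

theorem VA_xor (a b : ℕ) : VA (a ^^^ b) = VA a * VA b := Subtype.ext (va_xor a b)

theorem VA_zero : VA 0 = 1 := Subtype.ext va_zero

theorem VA_sq (a : ℕ) : VA a * VA a = 1 := Subtype.ext (va_sq a)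

theorem VA_comm (a b : ℕ) : VA a * VA b = VA b * VA a := Subtype.ext (va_comm a b)

theorem VA_inj {a b : ℕ} (ha : a < 1024) (hb : b < 1024) (h : VA a = VA b) : a = b :=
  va_inj ha hb (congrArg Subtype.val h)

theorem VA_four : VA 4 = hgH 0 := Subtype.ext (by rw [coe_z]; exact va_four)

/-- The matrix of a normalising word. -/
def nM (j : ℕ) : List ℕ := Fi22Cover.bix.map fun b => vt ((normW.getD j ([], [])).2.getD b 0)

theorem norm_ok : ((List.range 2).all fun j =>
    let e := normW.getD j ([], [])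
    wok e.1 && Nat.beq (e.2.getD 0 1) 0 && (List.range 22).all fun i =>
      Nat.blt (e.2.getD i 0) 22 &&
        Nat.beq (Fi22Local.act e.1 (Fi22Cover.qs.getD i 0)) (Fi22Cover.qs.getD (e.2.getD i 0) 0)) = true := by
  decide +kernel

/-- A normalising element. -/
noncomputable def nrm (j : ℕ) : G₀ := τ * el (normW.getD j ([], [])).1 * τ⁻¹

theorem nrm_old {j : ℕ} (hj : j < 2) {i : ℕ} (hi : i < 22) :
    (normW.getD j ([], [])).2.getD i 0 < 22 ∧
    el (normW.getD j ([], [])).1 * tr (Fi22Cover.qp i) * (el (normW.getD j ([], [])).1)⁻¹ =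
      tr (Fi22Cover.qp ((normW.getD j ([], [])).2.getD i 0)) := by
  have h := List.all_eq_true.1 norm_ok j (List.mem_range.2 hj)
  simp only [Bool.and_eq_true, List.all_eq_true, List.mem_range, Nat.blt_eq, Nat.beq_eq] at h
  obtain ⟨⟨hw, -⟩, hp⟩ := h
  obtain ⟨hlt, himg⟩ := hp i hi
  refine ⟨hlt, ?_⟩
  have q1 := List.all_eq_true.1 Fi22Cover.qs_ok i (List.mem_range.2 hi)
  have q2 := List.all_eq_true.1 Fi22Cover.qs_ok _ (List.mem_range.2 hlt)
  simp only [Bool.and_eq_true, Nat.blt_eq] at q1 q2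
  rw [← Out22.tr_hom]
  refine congrArg tr (Fin.ext ?_)
  rw [← Fi22Local.apt_of_lt _ (Fi22Cover.qp i).2, Fi22Local.apt_el hw (Fi22Cover.qp i).2]
  show Fi22Local.act _ (Fi22Cover.qs.getD i 0 % 3510) = _ % 3510
  rw [Nat.mod_eq_of_lt q1.1.1, Nat.mod_eq_of_lt q2.1.1, himg]

theorem nrm_qp {j : ℕ} (hj : j < 2) {i : ℕ} (hi : i < 22) :
    nrm j * tr (qp i) * (nrm j)⁻¹ = tr (qp ((normW.getD j ([], [])).2.getD i 0)) := by
  obtain ⟨hlt, h⟩ := nrm_old hj hi
  rw [T_eq hi, va, ← old_eq hi, T_eq hlt, va, ← old_eq hlt, ← h, nrm]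
  group

theorem nrm_mem {j : ℕ} (hj : j < 2) : nrm j ∈ Fi22.H := by
  refine (Out22.mem_H_iff _).2 ((fix_iff _ _).2 (mul_inv_eq_iff_eq_mul.1 ?_))
  rw [← qp_zero, nrm_qp hj (by norm_num)]
  have h := List.all_eq_true.1 norm_ok j (List.mem_range.2 hj)
  simp only [Bool.and_eq_true, List.all_eq_true, List.mem_range, Nat.blt_eq, Nat.beq_eq] at h
  obtain ⟨⟨-, h0⟩, -⟩ := h
  interval_cases j <;> rfl

theorem nrm_va {j : ℕ} (hj : j < 2) (a : ℕ) :
    nrm j * va a * (nrm j)⁻¹ = va (TwoCert.app (nM j) a) := by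
  set m := el (normW.getD j ([], [])).1 with hm'
  have key : m * Fi22Two.sys.va a * m⁻¹ = Fi22Two.sys.va (TwoCert.app (nM j) a) := by
    show m * TwoCert.val Fi22Two.sys.es a * m⁻¹ = TwoCert.val Fi22Two.sys.es (TwoCert.app (nM j) a)
    rw [TwoCert.conj_val, ← TwoCert.val_app Fi22Two.sys.basis_sq Fi22Two.sys.basis_comm]
    congr 1
    show (Fi22Two.basisW.map fun w => wp w).map _ = _
    rw [Fi22Cover.basis_eq, nM, List.map_map, List.map_map, List.map_map]
    refine List.map_congr_left fun b hb => ?_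
    have hb' := Fi22Cover.bix_lt b hb
    obtain ⟨hlt, h⟩ := nrm_old hj hb'
    show m * wp (Fi22Cover.pw b) * m⁻¹ = Fi22Two.sys.va _
    rw [← (Fi22Cover.tr_qp hb').1, h, old_eq hlt]
  rw [va, va, ← key, nrm, ← hm']
  group

/-- A normalising element of the stabiliser. -/
noncomputable def NH (j : Fin 2) : Fi22.H := ⟨nrm j, nrm_mem j.2⟩

theorem NH_VA (j : Fin 2) (a : ℕ) : NH j * VA a * (NH j)⁻¹ = VA (TwoCert.app (nM j) a) :=
  Subtype.ext (nrm_va j.2 a)

/-- The 2^10 in the stabiliser. -/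
noncomputable def A : Subgroup Fi22.H :=
  (Fi22Two.A0.map (MulAut.conj τ).toMonoidHom).subgroupOf Fi22.H

theorem mem_A {x : Fi22.H} : x ∈ A ↔ ∃ a < 1024, x = VA a := by
  show (x : G₀) ∈ Fi22Two.A0.map (MulAut.conj τ).toMonoidHom ↔ _
  rw [Subgroup.mem_map]
  constructor
  · rintro ⟨y, ⟨a, ha, rfl⟩, e⟩
    exact ⟨a, ha, Subtype.ext e.symm⟩
  · rintro ⟨a, ha, rfl⟩
    exact ⟨_, ⟨a, ha, rfl⟩, rfl⟩

theorem A_elementary : Cfsg.IsElementaryAbelian 2 A := by
  refine ⟨⟨⟨fun x y => ?_⟩⟩, fun x hx => ?_⟩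
  · obtain ⟨a, -, hx⟩ := mem_A.1 x.2
    obtain ⟨b, -, hy⟩ := mem_A.1 y.2
    exact Subtype.ext (by rw [Subgroup.coe_mul, Subgroup.coe_mul, hx, hy, VA_comm])
  · obtain ⟨a, -, rfl⟩ := mem_A.1 hx
    rw [sq, VA_sq]

theorem card_A : Nat.card A = 2 ^ 10 := by
  let φ : Fin (2 ^ 10) → A := fun a => ⟨VA a, mem_A.2 ⟨a, a.2, rfl⟩⟩
  have hφ : Function.Bijective φ := by
    refine ⟨fun p q h => Fin.ext (VA_inj p.2 q.2 (congrArg Subtype.val h)), fun x => ?_⟩
    obtain ⟨a, ha, e⟩ := mem_A.1 x.2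
    exact ⟨⟨a, ha⟩, Subtype.ext e.symm⟩
  rw [← Nat.card_eq_of_bijective φ hφ, Nat.card_fin]

end Cfsg.Agent.U62Cover
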