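import Cfsg.Agent.Lib.U62Cover.Space
import Cfsg.Agent.Lib.Fi22Local.Triples

/-!
The involutions of the point stabiliser: five classes besides the central one, told apart by the numbers of
fixed cosets of an element and of its product with the centre, each meeting the 2^10 in one orbit.
-/

set_option autoImplicit false
set_option maxRecDepth 100000

namespace Cfsg.Agent.U62Cover

open Cfsg.Agent.CosetCert
open Cfsg.Agent.CosetData
open Cfsg.Agent.FischerPresented
open Cfsg.Agent.FischerPresented.Out22 (hm tr)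
open Cfsg.Agent.FischerPresented.U62 (hgH)
open Cfsg.Agent.FischerPresented.Fi22Two (fix IsFactors)
open Cfsg.Agent.Fi22Local (el wok apt tapp trN)

local notation "G₀" => Setup.G Fi22B.setup

/-- The class number of a vector. -/
noncomputable def code (a : ℕ) : ℕ := Nat.land (Nat.shiftRight code10 (4 * a)) 15

/-- The representative of a class. -/
def rep (c : ℕ) : ℕ := [4, 1, 5, 3, 7, 11].getD c 0

/-- The orbit list of a class. -/
def orbs (c : ℕ) : List (ℕ × ℕ × ℕ) := [[], orb1, orb2, orb3, orb4, orb5].getD c []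

/-- One entry of an orbit list. -/
noncomputable def entryOK (c i : ℕ) : Bool :=
  let e := (orbs c).getD i (0, 0, 0)
  Nat.blt e.1 1024 && Nat.beq (code e.1) c &&
    bif Nat.beq i 0 then Nat.beq e.1 (rep c)
    else Nat.blt e.2.2 i && Nat.blt e.2.1 2 &&
      Nat.beq e.1 (TwoCert.app (nM e.2.1) ((orbs c).getD e.2.2 (0, 0, 0)).1)

theorem orbs_ok : ((List.range 6).all fun c => (List.range (orbs c).length).all (entryOK c)) = true := by
  decide +kernel

/-- The recorded class of a vector has it in its list. -/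
noncomputable def coverOK (a : ℕ) : Bool :=
  match code a with
  | 0 => Nat.beq a 4
  | 7 => Nat.beq a 0
  | c => Nat.blt c 6 && (orbs c).any fun e => Nat.beq e.1 a

theorem cover_ok : ((List.range 1024).all coverOK) = true := by decide +kernel

/-- The class of an involution of the stabiliser. -/
def Cls (c : ℕ) (x : Fi22.H) : Prop := IsConj (VA (rep c)) x

theorem Cls.conj {c : ℕ} {x : Fi22.H} (h : Cls c x) (e : Fi22.H) : Cls c (e * x * e⁻¹) :=
  h.trans (isConj_iff.2 ⟨e, rfl⟩)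

theorem Cls.isConj {c : ℕ} {x y : Fi22.H} (hx : Cls c x) (hy : Cls c y) :
    ∃ e : Fi22.H, e * x * e⁻¹ = y := isConj_iff.1 (hx.symm.trans hy)

/-- The elements of the stabiliser normalising the 2^10. -/
noncomputable def NA : Subgroup Fi22.H := Subgroup.normalizer ((A : Subgroup Fi22.H) : Set Fi22.H)

theorem mem_NA {e : Fi22.H} (h : ∀ a < 1024, ∃ b < 1024, e * VA a * e⁻¹ = VA b) : e ∈ NA := by
  have : Finite Fi22.H := by have := Fi22.order_facts.1; infer_instance
  have hle : A.map (MulAut.conj e).toMonoidHom ≤ A := by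
    rintro _ ⟨x, hx, rfl⟩
    obtain ⟨a, ha, rfl⟩ := mem_A.1 hx
    obtain ⟨b, hb, eb⟩ := h a ha
    exact mem_A.2 ⟨b, hb, eb⟩
  have heq : A.map (MulAut.conj e).toMonoidHom = A := Subgroup.eq_of_le_of_card_ge hle
    (Subgroup.card_map_of_injective (MulAut.conj e).injective).ge
  rw [NA, Subgroup.mem_normalizer_iff]
  intro x
  constructor
  · exact fun hx => hle ⟨x, hx, rfl⟩
  · intro hx
    obtain ⟨u, hu, eu⟩ := (heq.symm ▸ hx : e * x * e⁻¹ ∈ A.map (MulAut.conj e).toMonoidHom)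
    exact (mul_left_cancel (mul_right_cancel (show e * u * e⁻¹ = e * x * e⁻¹ from eu))) ▸ hu

theorem nM_lt : ((List.range 2).all fun j => (nM j).all fun v => Nat.blt v 1024) = true := by decide +kernel

theorem NH_mem (j : Fin 2) : NH j ∈ NA := mem_NA fun a _ => ⟨_, TwoCert.app_lt (n := 10) (fun v hv =>
  Nat.blt_eq.mp (List.all_eq_true.1 (List.all_eq_true.1 nM_lt j (List.mem_range.2 j.2)) v hv)) a, NH_VA j a⟩

theorem orbit_norm (c : ℕ) (hc : c < 6) : ∀ i < (orbs c).length,
    ∃ e ∈ NA, e * VA (rep c) * e⁻¹ = VA ((orbs c).getD i (0, 0, 0)).1 := by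
  intro i
  induction i using Nat.strong_induction_on with
  | _ i ih =>
    intro hi
    have h := List.all_eq_true.1 (List.all_eq_true.1 orbs_ok c (List.mem_range.2 hc)) i (List.mem_range.2 hi)
    rw [entryOK] at h
    by_cases h0 : i = 0
    · subst h0
      simp only [show Nat.beq 0 0 = true from rfl, cond_true, Bool.and_eq_true, Nat.beq_eq] at h
      exact ⟨1, one_mem _, by rw [h.2]; group⟩
    · rw [Bool.eq_false_iff.2 fun e : Nat.beq i 0 = true => h0 (Nat.eq_of_beq_eq_true e)] at h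
      simp only [cond_false, Bool.and_eq_true, Nat.blt_eq, Nat.beq_eq] at h
      obtain ⟨-, ⟨hp, hj⟩, he⟩ := h
      obtain ⟨e, heN, hee⟩ := ih _ hp (hp.trans hi)
      refine ⟨NH ⟨_, hj⟩ * e, mul_mem (NH_mem _) heN, ?_⟩
      rw [he, ← NH_VA ⟨_, hj⟩, ← hee]
      group

theorem orbit_conj (c : ℕ) (hc : c < 6) : ∀ i < (orbs c).length, Cls c (VA ((orbs c).getD i (0, 0, 0)).1) :=
  fun i hi => by
    obtain ⟨e, -, h⟩ := orbit_norm c hc i hi
    exact isConj_iff.2 ⟨e, h⟩

theorem code_cases {a : ℕ} (ha : a < 1024) :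
    (a = 4 ∧ code a = 0) ∨ (a = 0 ∧ code a = 7) ∨ (1 ≤ code a ∧ code a ≤ 5 ∧ Cls (code a) (VA a)) := by
  have h := List.all_eq_true.1 cover_ok a (List.mem_range.2 ha)
  rw [coverOK] at h
  split at h
  · exact Or.inl ⟨Nat.eq_of_beq_eq_true h, by assumption⟩
  · exact Or.inr (Or.inl ⟨Nat.eq_of_beq_eq_true h, by assumption⟩)
  · rename_i h0 h7
    simp only [Bool.and_eq_true, Nat.blt_eq, List.any_eq_true, Nat.beq_eq] at h
    obtain ⟨hc, e, he, hea⟩ := h
    refine Or.inr (Or.inr ⟨Nat.one_le_iff_ne_zero.2 h0, by omega, ?_⟩)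
    obtain ⟨i, hi, hie⟩ := List.getElem_of_mem he
    have := orbit_conj _ hc i hi
    rwa [List.getD_eq_getElem _ _ hi, hie, hea] at this

theorem code_spec {a : ℕ} (ha : a < 1024) : (code a ≤ 5 ∧ Cls (code a) (VA a)) ∨ a = 0 := by
  rcases code_cases ha with ⟨rfl, h⟩ | ⟨h, -⟩ | ⟨-, h⟩
  · exact Or.inl ⟨by omega, by rw [h]; exact IsConj.refl _⟩
  · exact Or.inr h
  · exact Or.inl h

theorem code_norm {a : ℕ} (ha : a < 1024) (h1 : 1 ≤ code a) (h5 : code a ≤ 5) :
    ∃ e ∈ NA, e * VA (rep (code a)) * e⁻¹ = VA a := by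
  have h := List.all_eq_true.1 cover_ok a (List.mem_range.2 ha)
  rw [coverOK] at h
  split at h
  · omega
  · omega
  · simp only [Bool.and_eq_true, Nat.blt_eq, List.any_eq_true, Nat.beq_eq] at h
    obtain ⟨hc, e, he, hea⟩ := h
    obtain ⟨i, hi, hie⟩ := List.getElem_of_mem he
    have := orbit_norm _ hc i hi
    rwa [List.getD_eq_getElem _ _ hi, hie, hea] at this

theorem code_zero : code 0 = 7 ∧ code 4 = 0 := by decide +kernel

theorem rep_ok : ((List.range 6).all fun c => Nat.beq (code (rep c)) c && Nat.blt (rep c) 1024) = true := by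
  decide +kernel

theorem rep_spec {c : ℕ} (hc : c ≤ 5) : rep c < 1024 ∧ code (rep c) = c := by
  have h := List.all_eq_true.1 rep_ok c (List.mem_range.2 (by omega))
  rw [Bool.and_eq_true, Nat.beq_eq, Nat.blt_eq] at h
  exact ⟨h.2, h.1⟩

/-! ### Invariants -/

theorem qn_inj : ((List.range 22).all fun i => (List.range 22).all fun j =>
    Nat.beq i j || !(Nat.beq (qn.getD i 0) (qn.getD j 0))) = true := by decide +kernel

theorem qp_ne {i j : ℕ} (hi : i < 22) (hj : j < 22) (h : i ≠ j) : qp i ≠ qp j := fun e => by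
  have hh := List.all_eq_true.1 (List.all_eq_true.1 qn_inj i (List.mem_range.2 hi)) j (List.mem_range.2 hj)
  simp only [Bool.or_eq_true, Nat.beq_eq, Bool.not_eq_true'] at hh
  refine Nat.ne_of_beq_eq_false (hh.resolve_left h) ?_
  rw [← qp_val hi, ← qp_val hj, e]

theorem prod_qp : ∀ l : List ℕ, (∀ i ∈ l, i < 22) →
    (l.map fun i => tr (qp i)).prod = va (l.foldr (fun i a => Nat.xor (vt i) a) 0)
  | [], _ => va_zero.symm
  | i :: l, h => by
    rw [List.map_cons, List.prod_cons, prod_qp l fun j hj => h j (List.mem_cons_of_mem _ hj),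
      T_eq (h i List.mem_cons_self), List.foldr_cons]
    exact (va_xor _ _).symm

/-- The fixed cosets of the three classes. -/
def fcnt (m : ℕ) : ℕ := [3510, 694, 182, 54].getD m 0

theorem fix_one : fix (1 : G₀) = 3510 := by
  rw [fix, map_one]
  simp
  rfl

theorem fix_members {l : List ℕ} (hl : ∀ i ∈ l, i < 22) (hnd : l.Nodup) (h3 : l.length ≤ 3) :
    fix (va (l.foldr (fun i a => Nat.xor (vt i) a) 0)) = fcnt l.length := by
  rw [← prod_qp l hl]
  by_cases h0 : l = []
  · subst h0; exact fix_one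
  have hf : IsFactors (l.map fun i => tr (qp i)) := by
    refine ⟨?_, ?_, ?_⟩
    · refine List.Nodup.map_on (fun x hx y hy e => ?_) hnd
      by_contra hne
      exact qp_ne (hl x hx) (hl y hy) hne (Out22.tr_injective e)
    · intro a ha
      obtain ⟨i, -, rfl⟩ := List.mem_map.1 ha
      exact Out22.tr_mem _
    · intro a ha b hb
      obtain ⟨i, hi, rfl⟩ := List.mem_map.1 ha
      obtain ⟨j, hj, rfl⟩ := List.mem_map.1 hb
      rw [T_eq (hl i hi), T_eq (hl j hj)]
      exact va_comm _ _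
  have h1 : 1 ≤ l.length := List.length_pos_iff.2 h0
  have hc := Fi22Two.fix_conj (Fi22Two.conj_std _ hf (by rwa [List.length_map]) (by rwa [List.length_map]))
  rw [List.length_map] at hc
  rw [← hc]
  obtain ⟨a, b, c⟩ := Fi22Two.fix_std
  interval_cases l.length
  exacts [a, b, c]

/-- The numbers of fixed cosets of an element and of its product with the centre. -/
noncomputable def inv2 (x : Fi22.H) : ℕ × ℕ := (fix (x : G₀), fix ((x * hgH 0 : Fi22.H) : G₀))

theorem inv2_conj {x y : Fi22.H} (h : IsConj x y) : inv2 x = inv2 y := by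
  obtain ⟨e, rfl⟩ := isConj_iff.1 h
  refine Prod.ext (Fi22Two.fix_conj (isConj_iff.2 ⟨(e : G₀), rfl⟩))
    (Fi22Two.fix_conj (isConj_iff.2 ⟨(e : G₀), ?_⟩))
  rw [show e * x * e⁻¹ * hgH 0 = e * (x * hgH 0) * e⁻¹ by
    rw [mul_assoc, ← U62.hgH_central e⁻¹]; group]
  rfl

theorem reps_ok : ((List.range 5).all fun k =>
    let e := reps5.getD k (0, [], [])
    Nat.beq e.1 (rep (k + 1)) && Nat.beq (e.2.1.foldr (fun i a => Nat.xor (vt i) a) 0) e.1 &&
      Nat.beq (e.2.2.foldr (fun i a => Nat.xor (vt i) a) 0) (Nat.xor e.1 4) &&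
      decide e.2.1.Nodup && decide e.2.2.Nodup && (e.2.1.all fun i => Nat.blt i 22) &&
      (e.2.2.all fun i => Nat.blt i 22) &&
      Nat.beq e.2.1.length ([1, 2, 2, 3, 3].getD k 0) && Nat.beq e.2.2.length ([2, 1, 3, 2, 3].getD k 0)) = true := by
  decide +kernel

/-- The invariants of the classes. -/
def invs (c : ℕ) : ℕ × ℕ := [(694, 3510), (694, 182), (182, 694), (182, 54), (54, 182), (54, 54)].getD c (0, 0)

theorem inv2_rep {c : ℕ} (hc : c ≤ 5) : inv2 (VA (rep c)) = invs c := by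
  rcases Nat.eq_zero_or_pos c with rfl | hpos
  · have h := fix_members (l := [0]) (by simp) (by simp) (by simp)
    refine Prod.ext h ?_
    show fix ((VA 4 * hgH 0 : Fi22.H) : G₀) = 3510
    rw [← VA_four, VA_sq]
    exact fix_one
  obtain ⟨k, rfl⟩ : ∃ k, c = k + 1 := ⟨c - 1, by omega⟩
  have hk : k < 5 := by omega
  have h := List.all_eq_true.1 reps_ok k (List.mem_range.2 hk)
  simp only [Bool.and_eq_true, Nat.beq_eq, decide_eq_true_eq, List.all_eq_true, Nat.blt_eq] at h
  obtain ⟨⟨⟨⟨⟨⟨⟨⟨hr, h1⟩, h2⟩, n1⟩, n2⟩, l1⟩, l2⟩, len1⟩, len2⟩ := h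
  have b1 : (reps5.getD k (0, [], [])).2.1.length ≤ 3 := by rw [len1]; interval_cases k <;> decide
  have b2 : (reps5.getD k (0, [], [])).2.2.length ≤ 3 := by rw [len2]; interval_cases k <;> decide
  have e1 := fix_members l1 n1 b1
  have e2 := fix_members l2 n2 b2
  rw [h1, hr, len1] at e1
  rw [h2, hr, len2] at e2
  refine Prod.ext (e1.trans ?_) ?_
  · interval_cases k <;> rfl
  · show fix ((VA (rep (k + 1)) * hgH 0 : Fi22.H) : G₀) = _
    rw [← VA_four, ← VA_xor]
    refine e2.trans ?_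
    interval_cases k <;> rfl

theorem Cls.unique {c c' : ℕ} {x : Fi22.H} (h5 : c ≤ 5) (h5' : c' ≤ 5) (h : Cls c x) (h' : Cls c' x) :
    c = c' := by
  have e := (inv2_conj h).trans (inv2_conj h').symm
  rw [inv2_rep h5, inv2_rep h5'] at e
  revert e
  interval_cases c <;> interval_cases c' <;> simp [invs]

/-! ### Involutions -/

theorem trN_zero : trN 0 = (hgH 0 : G₀) := by
  rw [Fi22Local.trN_eq (show 0 < 3510 by norm_num), coe_z, ← va_four, show (4 : ℕ) = vt 0 from rfl,
    ← T_eq (by norm_num), qp_zero]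
  rfl

theorem tapp_zero_eq (p : ℕ) (hp : p < 3510) : trN (tapp 0 p) = trN 0 * trN p * (trN 0)⁻¹ := by
  rw [← Fi22Local.apt_trN (by norm_num) hp, Fi22Local.trN_apt _ hp]

/-- The centre fixes a transposition commuting with its image. -/
theorem fix_of_commute {p : ℕ} (hp : p < 3510) (h : Commute (trN p) (trN (tapp 0 p))) : tapp 0 p = p := by
  have h0 : (0 : ℕ) < 3510 := by norm_num
  rw [← Fi22Local.Triple.commute_iff h0 hp]
  by_contra hc
  have hz := Fi22Local.Triple.trN_sq h0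
  have hu := Fi22Local.Triple.trN_sq hp
  have h3 := Fischer.TSet.cube Fi22Class.isClass.1 (Fi22Local.trN_mem h0) (Fi22Local.trN_mem hp) hc
  rw [tapp_zero_eq p hp, inv_eq_of_mul_eq_one_right hz] at h
  have h4 : (trN 0 * trN p) ^ 4 = 1 := by
    calc (trN 0 * trN p) ^ 4
        = (trN 0 * trN p * trN 0) * trN p * ((trN 0 * trN p * trN 0) * trN p) := by
          rw [pow_succ, pow_succ, pow_two]; group
      _ = trN p * (trN 0 * trN p * trN 0) * ((trN 0 * trN p * trN 0) * trN p) := by rw [h.eq]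
      _ = trN p * (trN 0 * trN p * (trN 0 * trN 0) * trN p * trN 0) * trN p := by group
      _ = 1 := by rw [hz, mul_one, mul_assoc (trN 0), hu, mul_one, hz, mul_one, hu]
  rw [pow_succ, h3, one_mul] at h4
  refine hc ?_
  rw [eq_inv_of_mul_eq_one_left h4]
  exact (Commute.refl _).inv_left

theorem six_ok : (Fi22Local.Triple.six.all fun s => Nat.blt s 3510 && Nat.beq (tapp 0 s) s) = true := by
  decide +kernel

theorem image_commute {p q : ℕ} (hp : p < 3510) (hq : q < 3510) (hc : tapp p q = q) :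
    tapp (tapp 0 p) (tapp 0 q) = tapp 0 q := by
  rw [← Fi22Local.apt_trN (by norm_num) hp, ← Fi22Local.apt_trN (by norm_num) hq]
  exact Fi22Local.Triple.tapp_move hp hq hc

theorem pair_fix {p q : ℕ} (hp : p < 3510) (hq : q < 3510) (hne : p ≠ q) (hc : tapp p q = q)
    (h : Commute (trN 0) (trN p * trN q)) : tapp 0 p = p := by
  have h0 : (0 : ℕ) < 3510 := by norm_num
  refine fix_of_commute hp ?_
  have himg : trN (tapp 0 p) * trN (tapp 0 q) = trN p * trN q := by
    rw [tapp_zero_eq p hp, tapp_zero_eq q hq]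
    calc trN 0 * trN p * (trN 0)⁻¹ * (trN 0 * trN q * (trN 0)⁻¹) = trN 0 * (trN p * trN q) * (trN 0)⁻¹ := by
          group
      _ = trN p * trN q := by rw [h.eq, mul_inv_cancel_right]
  rcases Fi22Local.Triple.pair_unique hp hq (Fi22Local.tapp_lt h0 hp) (Fi22Local.tapp_lt h0 hq) hne
    (fun e => hne (Fi22Local.apt_injective (trN 0) (by
      rwa [Fi22Local.apt_trN h0 hp, Fi22Local.apt_trN h0 hq])))
    hc (image_commute hp hq hc) himg with ⟨e, -⟩ | ⟨e, -⟩
  · rw [e]
  · rw [e]; exact (Fi22Local.Triple.commute_iff hp hq).2 hc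

theorem triple_fix {p q r : ℕ} (hp : p < 3510) (hq : q < 3510) (hr : r < 3510) (hpq : p ≠ q) (hpr : p ≠ r)
    (hqr : q ≠ r) (cpq : tapp p q = q) (cpr : tapp p r = r) (cqr : tapp q r = r)
    (h : Commute (trN 0) (trN p * trN q * trN r)) : tapp 0 p = p := by
  have h0 : (0 : ℕ) < 3510 := by norm_num
  refine fix_of_commute hp ?_
  obtain ⟨g, g0, g7, g50⟩ := Fi22Local.Triple.exists_triple hp hq hr hpq hpr hqr cpq cpr cqr
  have hp' := Fi22Local.tapp_lt h0 hp
  have hq' := Fi22Local.tapp_lt h0 hq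
  have hr' := Fi22Local.tapp_lt h0 hr
  have hbase : trN (apt g⁻¹ (tapp 0 p)) * trN (apt g⁻¹ (tapp 0 q)) * trN (apt g⁻¹ (tapp 0 r)) =
      trN 0 * trN 7 * trN 50 := by
    rw [Fi22Local.trN_apt _ hp', Fi22Local.trN_apt _ hq', Fi22Local.trN_apt _ hr', tapp_zero_eq p hp,
      tapp_zero_eq q hq, tapp_zero_eq r hr]
    calc g⁻¹ * (trN 0 * trN p * (trN 0)⁻¹) * g⁻¹⁻¹ * (g⁻¹ * (trN 0 * trN q * (trN 0)⁻¹) * g⁻¹⁻¹) *
          (g⁻¹ * (trN 0 * trN r * (trN 0)⁻¹) * g⁻¹⁻¹)
        = g⁻¹ * (trN 0 * (trN p * trN q * trN r) * (trN 0)⁻¹) * g := by group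
      _ = g⁻¹ * (trN p * trN q * trN r) * g := by rw [h.eq, mul_inv_cancel_right]
      _ = trN 0 * trN 7 * trN 50 := by
        rw [← g0, ← g7, ← g50, Fi22Local.trN_apt _ (by norm_num), Fi22Local.trN_apt _ (by norm_num),
          Fi22Local.trN_apt _ (by norm_num)]
        group
  have hsix := Fi22Local.Triple.first_mem_six (Fi22Local.apt_lt _ hp') (Fi22Local.apt_lt _ hq')
    (Fi22Local.apt_lt _ hr')
    (fun e => hqr (Fi22Local.apt_injective (trN 0) (by
      rw [Fi22Local.apt_trN h0 hq, Fi22Local.apt_trN h0 hr]; exact Fi22Local.apt_injective _ e)))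
    (Fi22Local.Triple.tapp_move hp' hq' (image_commute hp hq cpq))
    (Fi22Local.Triple.tapp_move hp' hr' (image_commute hp hr cpr))
    (Fi22Local.Triple.tapp_move hq' hr' (image_commute hq hr cqr)) hbase
  have hs := List.all_eq_true.1 six_ok _ hsix
  simp only [Bool.and_eq_true, Nat.blt_eq, Nat.beq_eq] at hs
  have hc := ((Fi22Local.Triple.commute_iff h0 hs.1).2 hs.2).map (MulAut.conj g).toMonoidHom
  simp only [MulEquiv.coe_toMonoidHom, MulAut.conj_apply] at hc
  rw [← Fi22Local.trN_apt g (by norm_num), ← Fi22Local.trN_apt g hs.1, g0, ← Fi22Local.apt_mul,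
    mul_inv_cancel, Fi22Local.apt_one] at hc
  exact hc

theorem quads_ok : (quads.all fun e => wok e.2.1 && Nat.beq (Fi22Local.act e.2.1 0) 0 &&
    [0, 7, 50, e.1].all fun a => (List.range 22).any fun i =>
      Nat.beq (Fi22Local.act e.2.1 a) (qn.getD i 0)) = true := by decide +kernel

theorem quad_pts : quads.map Prod.fst = [53, 172, 2124, 2250] := by decide +kernel

/-- Moved into the clique, fixing the base coset. -/
def Into (L : List ℕ) : Prop := ∃ g : G₀, apt g 0 = 0 ∧ ∀ p ∈ L, ∃ i < 22, apt g p = qn.getD i 0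

theorem quad_into {p : ℕ} (hp : p ∈ [53, 172, 2124, 2250]) : Into [0, 7, 50, p] := by
  rw [← quad_pts] at hp
  obtain ⟨e, he, rfl⟩ := List.mem_map.1 hp
  have h := List.all_eq_true.1 quads_ok e he
  simp only [Bool.and_eq_true, Nat.beq_eq, List.all_eq_true, List.any_eq_true, List.mem_range] at h
  have hlt : ∀ q ∈ quads.map Prod.fst, q < 3510 := by rw [quad_pts]; decide
  refine ⟨el e.2.1, by rw [Fi22Local.apt_el h.1.1 (by norm_num)]; exact h.1.2, fun a ha => ?_⟩
  obtain ⟨i, hi, hia⟩ := h.2 a ha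
  refine ⟨i, hi, ?_⟩
  rw [Fi22Local.apt_el h.1.1 ?_, hia]
  simp only [List.mem_cons, List.not_mem_nil, or_false] at ha
  rcases ha with rfl | rfl | rfl | rfl
  · norm_num
  · norm_num
  · norm_num
  · exact hlt _ (List.mem_map.2 ⟨e, he, rfl⟩)

theorem into_pull {g : G₀} (g0 : apt g 0 = 0) {L L' : List ℕ} (h : Into L')
    (hL : ∀ p ∈ L, apt g⁻¹ p ∈ L') : Into L := by
  obtain ⟨k, k0, hk⟩ := h
  refine ⟨k * g⁻¹, ?_, fun p hp => ?_⟩
  · rw [Fi22Local.apt_mul, show apt g⁻¹ 0 = 0 from ?_, k0]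
    conv_lhs => rw [← g0]
    rw [← Fi22Local.apt_mul, inv_mul_cancel, Fi22Local.apt_one]
  · rw [Fi22Local.apt_mul]; exact hk _ (hL p hp)

theorem apt_back {g : G₀} {a b : ℕ} (h : apt g a = b) : apt g⁻¹ b = a := by
  rw [← h, ← Fi22Local.apt_mul, inv_mul_cancel, Fi22Local.apt_one]

theorem exists_into : ∀ L : List ℕ, L.Nodup → L.length ≤ 3 → (∀ p ∈ L, p < 3510 ∧ p ≠ 0 ∧ tapp 0 p = p) →
    (∀ a ∈ L, ∀ b ∈ L, tapp a b = b) → Into L
  | [], _, _, _, _ => ⟨1, Fi22Local.apt_one 0, by simp⟩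
  | [a], _, _, h, _ => by
    obtain ⟨ha, ha0, hca⟩ := h a (by simp)
    obtain ⟨g, g0, g7⟩ := Fi22Local.Triple.pair_normal ha ha0 hca
    refine into_pull g0 (quad_into (p := 53) (by simp)) ?_
    simp [apt_back g7]
  | [a, b], hnd, _, h, hc => by
    obtain ⟨ha, ha0, hca⟩ := h a (by simp)
    obtain ⟨hb, hb0, hcb⟩ := h b (by simp)
    obtain ⟨g, g0, g7, g50⟩ := Fi22Local.Triple.exists_triple (by norm_num) ha hb (Ne.symm ha0) (Ne.symm hb0)
      (by simp at hnd; exact hnd) hca hcb (hc a (by simp) b (by simp))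
    refine into_pull g0 (quad_into (p := 53) (by simp)) ?_
    simp [apt_back g7, apt_back g50]
  | [a, b, c], hnd, _, h, hc => by
    obtain ⟨ha, ha0, hca⟩ := h a (by simp)
    obtain ⟨hb, hb0, hcb⟩ := h b (by simp)
    obtain ⟨hc', hc0, hcc⟩ := h c (by simp)
    simp only [List.nodup_cons, List.mem_cons, List.not_mem_nil, or_false, not_or] at hnd
    obtain ⟨g, g0, g7, g50⟩ := Fi22Local.Triple.exists_triple (by norm_num) ha hb (Ne.symm ha0) (Ne.symm hb0)
      hnd.1.1 hca hcb (hc a (by simp) b (by simp))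
    set p := apt g⁻¹ c with hp
    have hlt : p < 3510 := Fi22Local.apt_lt _ hc'
    have hcm : ∀ x u : ℕ, x < 3510 → apt g u = x → tapp x c = c → Commute (trN u) (trN p) := fun x u hx hu hxc => by
      have := Fi22Local.Triple.tapp_move (g := g⁻¹) hx hc' hxc
      rw [apt_back hu] at this
      refine (Fi22Local.Triple.commute_iff ?_ hlt).2 this
      rw [← apt_back hu]
      exact Fi22Local.apt_lt _ hx
    have k0 := hcm 0 0 (by norm_num) g0 hcc
    have k7 := hcm a 7 ha g7 (hc a (by simp) c (by simp))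
    have k50 := hcm b 50 hb g50 (hc b (by simp) c (by simp))
    have hfix : Fi22Local.act (Fi22Local.Triple.wd [0, 7, 50]) p = p := by
      rw [← Fi22Local.apt_el Fi22Local.Triple.counts.2.2.2.2.2.2.2.2 hlt, Fi22Local.apt_fix_iff _ hlt,
        Fi22Local.Triple.el_triple]
      exact (k0.mul_left k7).mul_left k50
    have hne : ∀ x u : ℕ, apt g u = x → c ≠ x → p ≠ u := fun x u hu hcx e => hcx (by
      rw [← hu, ← e, hp, ← Fi22Local.apt_mul, mul_inv_cancel, Fi22Local.apt_one])
    have n0 := hne 0 0 g0 hc0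
    have n7 := hne a 7 g7 (fun e => hnd.1.2 e.symm)
    have n50 := hne b 50 g50 (fun e => hnd.2.1 e.symm)
    have hcov := allBelow_spec Fi22Local.Triple.coverJ3 hlt
    simp only [hfix, Bool.or_eq_true, Nat.beq_eq, Bool.not_eq_true', List.contains_iff_mem] at hcov
    rcases hcov with (hh | hh) | hh
    · simp at hh
    · have hp4 : p ∈ [53, 172, 2124, 2250] := by
        simp only [Fi22Local.Triple.six, List.mem_cons, List.not_mem_nil, or_false] at hh ⊢
        omega
      refine into_pull g0 (quad_into hp4) ?_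
      simp [apt_back g7, apt_back g50, ← hp]
    · obtain ⟨k, hk, hkp⟩ := Fi22Local.Triple.orbit_mem (S := Fi22Local.Triple.pfix [0, 7, 50])
        Fi22Local.Triple.orbB_ok
        (fun w hw => Fi22Local.Triple.el_mem_pfix (List.all_eq_true.1 Fi22Local.Triple.swB_fix w hw)) hh
      have e0 : apt (g * k) 0 = 0 := by rw [Fi22Local.apt_mul, hk 0 (by simp), g0]
      have e7 : apt (g * k) 7 = a := by rw [Fi22Local.apt_mul, hk 7 (by simp), g7]
      have e50 : apt (g * k) 50 = b := by rw [Fi22Local.apt_mul, hk 50 (by simp), g50]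
      have e53 : apt (g * k) 53 = c := by
        rw [Fi22Local.apt_mul, hkp, hp, ← Fi22Local.apt_mul, mul_inv_cancel, Fi22Local.apt_one]
      refine into_pull e0 (quad_into (p := 53) (by simp)) ?_
      simp only [List.mem_cons, List.not_mem_nil, or_false]
      rintro x (rfl | rfl | rfl)
      · exact Or.inr (Or.inl (apt_back e7))
      · exact Or.inr (Or.inr (Or.inl (apt_back e50)))
      · exact Or.inr (Or.inr (Or.inr (apt_back e53)))
  | _ :: _ :: _ :: _ :: _, _, h, _, _ => by simp at h; omega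

/-- A product of transpositions of the stabiliser commuting with the centre is conjugate into the 2^10. -/
theorem conj_into (l : List ℕ) (hnd : l.Nodup) (h3 : l.length ≤ 3)
    (h : ∀ p ∈ l, p < 3510 ∧ tapp 0 p = p) (hc : ∀ a ∈ l, ∀ b ∈ l, tapp a b = b) :
    ∃ g ∈ Fi22.H, ∃ a < 1024, g * (l.map trN).prod * g⁻¹ = va a := by
  obtain ⟨g, g0, hg⟩ := exists_into (l.filter fun p => !(Nat.beq p 0)) (hnd.filter _)
    ((List.length_filter_le _ _).trans h3) (fun p hp => by
      obtain ⟨hp, hp0⟩ := List.mem_filter.1 hp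
      refine ⟨(h p hp).1, ?_, (h p hp).2⟩
      exact fun e => by subst e; exact Bool.noConfusion hp0) (fun a ha b hb => hc a (List.mem_filter.1 ha).1 b (List.mem_filter.1 hb).1)
  have hH : g ∈ Fi22.H := (Out22.mem_H_iff _).2 (Fin.ext (by
    rw [← Fi22Local.apt_of_lt g (Fin.isLt _)]; exact g0))
  have hall : ∀ p ∈ l, ∃ i < 22, apt g p = qn.getD i 0 := fun p hp => by
    by_cases hp0 : p = 0
    · subst hp0; exact ⟨0, by norm_num, g0⟩
    · exact hg p (List.mem_filter.2 ⟨hp, by
        rw [Bool.eq_false_iff.2 fun e : Nat.beq p 0 = true => hp0 (Nat.eq_of_beq_eq_true e)]; rfl⟩)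
  refine ⟨g, hH, ?_⟩
  clear hg hnd h3 hc
  induction l with
  | nil => exact ⟨0, by norm_num, by simp [va_zero]⟩
  | cons p l ih =>
    obtain ⟨a, ha, e⟩ := ih (fun q hq => h q (List.mem_cons_of_mem _ hq))
      (fun q hq => hall q (List.mem_cons_of_mem _ hq))
    obtain ⟨i, hi, hgi⟩ := hall p List.mem_cons_self
    refine ⟨vt i ^^^ a, Nat.xor_lt_two_pow (n := 10) (vt_lt hi) ha, ?_⟩
    rw [va_xor, ← T_eq hi, List.map_cons, List.prod_cons,
      show g * (trN p * (l.map trN).prod) * g⁻¹ = (g * trN p * g⁻¹) * (g * (l.map trN).prod * g⁻¹) by group,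
      e, ← Fi22Local.trN_apt g (h p List.mem_cons_self).1, hgi, ← qp_val hi, Fi22Local.trN_eq (qp i).2]

theorem exists_conj_A {x : Fi22.H} (hsq : x * x = 1) (h1 : x ≠ 1) :
    ∃ e : Fi22.H, ∃ a < 1024, e * x * e⁻¹ = VA a := by
  obtain ⟨l, hl1, hl3, ⟨hnd, hD, hcm⟩, hx⟩ := Fi22Two.exists_factors (x : G₀) (orderOf_eq_prime
    (by rw [sq, ← Subgroup.coe_mul, hsq, Subgroup.coe_one]) fun e => h1 (Subtype.ext e))
  have hex : ∀ a ∈ l, ∃ p, p < 3510 ∧ trN p = a := fun a ha => Fi22Local.exists_trN (hD a ha)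
  have hz : Commute (trN 0) (x : G₀) := by
    rw [trN_zero]
    exact congrArg Subtype.val (U62.hgH_central x)
  have fin : ∀ L : List ℕ, L.map trN = l → (∀ p ∈ L, p < 3510) → (∀ p ∈ L, tapp 0 p = p) →
      ∃ e : Fi22.H, ∃ a < 1024, e * x * e⁻¹ = VA a := by
    intro L hL hlt hfix
    obtain ⟨g, hg, a, ha, e⟩ := conj_into L (List.Nodup.of_map trN (hL ▸ hnd))
      (by rw [← List.length_map (f := trN), hL]; exact hl3) (fun p hp => ⟨hlt p hp, hfix p hp⟩)
      (fun p hp q hq => (Fi22Local.Triple.commute_iff (hlt p hp) (hlt q hq)).1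
        (hcm _ (hL ▸ List.mem_map_of_mem hp) _ (hL ▸ List.mem_map_of_mem hq)))
    exact ⟨⟨g, hg⟩, a, ha, Subtype.ext (by
      show g * (x : G₀) * g⁻¹ = va a
      rw [← e, hL, hx])⟩
  match l, hl1, hl3, hnd, hcm, hex, hx with
  | [a], _, _, _, _, hex, hx =>
    obtain ⟨p, hp, rfl⟩ := hex a (by simp)
    refine fin [p] rfl (by simpa using hp) ?_
    simp only [List.mem_singleton, forall_eq]
    rw [← Fi22Local.Triple.commute_iff (by norm_num) hp]
    simpa [← hx] using hz
  | [a, b], _, _, hnd, hcm, hex, hx =>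
    obtain ⟨p, hp, rfl⟩ := hex a (by simp)
    obtain ⟨q, hq, rfl⟩ := hex b (by simp)
    have hne : p ≠ q := fun e => by simp [e] at hnd
    have hc := hcm (trN p) (by simp) (trN q) (by simp)
    have hz1 : Commute (trN 0) (trN p * trN q) := by simpa [← hx] using hz
    refine fin [p, q] rfl (by simp [hp, hq]) ?_
    simp only [List.mem_cons, List.not_mem_nil, or_false, forall_eq_or_imp, forall_eq]
    exact ⟨pair_fix hp hq hne ((Fi22Local.Triple.commute_iff hp hq).1 hc) hz1,
      pair_fix hq hp hne.symm ((Fi22Local.Triple.commute_iff hq hp).1 hc.symm) (hc.eq ▸ hz1)⟩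
  | [a, b, c], _, _, hnd, hcm, hex, hx =>
    obtain ⟨p, hp, rfl⟩ := hex a (by simp)
    obtain ⟨q, hq, rfl⟩ := hex b (by simp)
    obtain ⟨r, hr, rfl⟩ := hex c (by simp)
    have npq : p ≠ q := fun e => by simp [e] at hnd
    have npr : p ≠ r := fun e => by simp [e] at hnd
    have nqr : q ≠ r := fun e => by simp [e] at hnd
    have cpq := hcm (trN p) (by simp) (trN q) (by simp)
    have cpr := hcm (trN p) (by simp) (trN r) (by simp)
    have cqr := hcm (trN q) (by simp) (trN r) (by simp)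
    have t1 := (Fi22Local.Triple.commute_iff hp hq).1 cpq
    have t2 := (Fi22Local.Triple.commute_iff hp hr).1 cpr
    have t3 := (Fi22Local.Triple.commute_iff hq hr).1 cqr
    have u1 := (Fi22Local.Triple.commute_iff hq hp).1 cpq.symm
    have u2 := (Fi22Local.Triple.commute_iff hr hp).1 cpr.symm
    have u3 := (Fi22Local.Triple.commute_iff hr hq).1 cqr.symm
    have hz1 : Commute (trN 0) (trN p * trN q * trN r) := by simpa [← hx, mul_assoc] using hz
    have hz2 : Commute (trN 0) (trN q * trN p * trN r) := cpq.eq ▸ hz1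
    have hz3 : Commute (trN 0) (trN r * trN p * trN q) := by
      rw [← cpr.eq, mul_assoc, ← cqr.eq, ← mul_assoc]; exact hz1
    refine fin [p, q, r] rfl (by simp [hp, hq, hr]) ?_
    simp only [List.mem_cons, List.not_mem_nil, or_false, forall_eq_or_imp, forall_eq]
    exact ⟨triple_fix hp hq hr npq npr nqr t1 t2 t3 hz1, triple_fix hq hp hr npq.symm nqr npr u1 t3 t2 hz2,
      triple_fix hr hp hq npr.symm nqr.symm npq u2 u3 t1 hz3⟩
  | [], h, _, _, _, _, _ => simp at h
  | _ :: _ :: _ :: _ :: _, _, h, _, _, _, _ => (simp at h; omega)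

/-- Every involution off the centre lies in a class. -/
theorem exists_cls {x : Fi22.H} (hsq : x * x = 1) (h1 : x ≠ 1) (hd : x ≠ hgH 0) :
    ∃ c, 1 ≤ c ∧ c ≤ 5 ∧ Cls c x := by
  obtain ⟨e, a, ha, he⟩ := exists_conj_A hsq h1
  have hx : x = e⁻¹ * VA a * e := by rw [← he]; group
  rcases code_cases ha with ⟨rfl, -⟩ | ⟨rfl, -⟩ | ⟨h1c, h5c, hc⟩
  · exact absurd (by rw [hx, VA_four, mul_assoc, U62.hgH_central, inv_mul_cancel_left]) hd
  · exact absurd (by rw [hx, VA_zero]; group) h1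
  · exact ⟨_, h1c, h5c, by simpa [← hx] using hc.conj e⁻¹⟩

end Cfsg.Agent.U62Cover
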