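import Cfsg.Agent.Lib.U62Cover.Classes

/-!
An involution whose centraliser is the double cover of PSU₆(2), commuting with another of its conjugates: the
2^10 holds exactly 22 conjugates, permuted transitively by its normaliser.
-/

set_option autoImplicit false
set_option maxRecDepth 100000

namespace Cfsg.Agent.U62Cover

open Cfsg.Agent.CosetCert
open Cfsg.Agent.CosetData
open Cfsg.Agent.FischerPresented
open Cfsg.Agent.FischerPresented.U62 (hgH)

local notation "G₀" => Setup.G Fi22B.setup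

/-! ### Elementary subgroups of the stabiliser -/

theorem elem_unique {S B B' : Subgroup Fi22.H} (hS : IsPGroup 2 S) (hB : B ≤ S) (hB' : B' ≤ S)
    (he : Cfsg.IsElementaryAbelian 2 B) (he' : Cfsg.IsElementaryAbelian 2 B') :
    Nat.card B ≤ 2 ^ 10 ∧ (Nat.card B = 2 ^ 10 → Nat.card B' = 2 ^ 10 → B = B') := by
  have := Fi22.order_facts.1
  set ι := Fi22.H.subtype
  obtain ⟨T, hT⟩ := (hS.map ι).exists_le_sylow
  obtain ⟨g, hg⟩ := Fi22Two.sylow_conj T
  set ψ := (MulAut.conj g⁻¹).toMonoidHom.comp ι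
  have hψ : Function.Injective ψ := (MulAut.conj g⁻¹).injective.comp Fi22.H.subtype_injective
  have key : ∀ C : Subgroup Fi22.H, C ≤ S → Cfsg.IsElementaryAbelian 2 C →
      Nat.card C ≤ 2 ^ 10 ∧ (Nat.card C = 2 ^ 10 → C.map ψ = Fi22Two.A0) := by
    intro C hC hel
    have hle : C.map ψ ≤ Fi22Two.T0 := by
      rintro _ ⟨x, hx, rfl⟩
      obtain ⟨y, hy, e⟩ : ι x ∈ Fi22Two.T0.map (MulAut.conj g).toMonoidHom :=
        hg ▸ hT ⟨x, hC hx, rfl⟩
      show g⁻¹ * ι x * g⁻¹⁻¹ ∈ Fi22Two.T0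
      rw [← e]
      simpa [mul_assoc] using hy
    have hel' : Cfsg.IsElementaryAbelian 2 (C.map ψ) := by
      refine ⟨⟨⟨fun x y => ?_⟩⟩, ?_⟩
      · obtain ⟨a, ha, ea⟩ := x.2
        obtain ⟨b, hb, eb⟩ := y.2
        refine Subtype.ext ?_
        rw [Subgroup.coe_mul, Subgroup.coe_mul, ← ea, ← eb, ← map_mul, ← map_mul]
        exact congrArg ψ (congrArg Subtype.val (hel.1.is_comm.comm ⟨a, ha⟩ ⟨b, hb⟩))
      · rintro _ ⟨a, ha, rfl⟩
        rw [← map_pow, hel.2 a ha, map_one]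
    have h := Fi22Two.elementary_le hle hel'
    rwa [Subgroup.card_map_of_injective hψ] at h
  exact ⟨(key B hB he).1, fun h h' => Subgroup.map_injective hψ (((key B hB he).2 h).trans ((key B' hB' he').2 h').symm)⟩

theorem elem_conj {B : Subgroup Fi22.H} (hel : Cfsg.IsElementaryAbelian 2 B) (hc : Nat.card B = 2 ^ 10) :
    ∃ e : Fi22.H, ∀ x : Fi22.H, x ∈ B ↔ ∃ a < 1024, x = e * VA a * e⁻¹ := by
  have := Fi22.order_facts.1
  have : Fact (Nat.Prime 2) := ⟨Nat.prime_two⟩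
  obtain ⟨P, hP⟩ := (IsPGroup.of_card hc).exists_le_sylow
  obtain ⟨Q, hQ⟩ := (IsPGroup.of_card card_A).exists_le_sylow
  obtain ⟨e, he⟩ := MulAction.exists_smul_eq Fi22.H Q P
  set A' := A.map (MulAut.conj e).toMonoidHom
  have hA' : A' ≤ (P : Subgroup Fi22.H) := by
    rw [← he]
    exact Subgroup.map_mono hQ
  have hel' : Cfsg.IsElementaryAbelian 2 A' := by
    refine ⟨⟨⟨fun x y => ?_⟩⟩, ?_⟩
    · obtain ⟨a, ha, ea⟩ := x.2
      obtain ⟨b, hb, eb⟩ := y.2
      refine Subtype.ext ?_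
      rw [Subgroup.coe_mul, Subgroup.coe_mul, ← ea, ← eb, ← map_mul, ← map_mul]
      exact congrArg _ (congrArg Subtype.val (A_elementary.1.is_comm.comm ⟨a, ha⟩ ⟨b, hb⟩))
    · rintro _ ⟨a, ha, rfl⟩
      rw [← map_pow, A_elementary.2 a ha, map_one]
  have hBA : B = A' := (elem_unique P.2 hP hA' hel hel').2 hc
    ((Subgroup.card_map_of_injective (MulAut.conj e).injective).trans card_A)
  refine ⟨e, fun x => ?_⟩
  rw [hBA, Subgroup.mem_map]
  constructor
  · rintro ⟨y, hy, rfl⟩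
    obtain ⟨a, ha, rfl⟩ := mem_A.1 hy
    exact ⟨a, ha, rfl⟩
  · rintro ⟨a, ha, rfl⟩
    exact ⟨VA a, mem_A.2 ⟨a, ha, rfl⟩, rfl⟩

/-! ### The possible unions of classes -/

/-- The number of pairs of marked vectors with given sum. -/
noncomputable def cnt (S a : ℕ) : ℕ :=
  ((List.range 1024).filter fun z => Nat.testBit S (code z) && Nat.testBit S (code (Nat.xor z a))).length

/-- The surviving sets of classes. -/
noncomputable def cases (S : ℕ) : Bool :=
  [1, 3, 5, 63].any (Nat.beq S) ||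
    (List.range 6).any fun c => Nat.testBit S c && !(Nat.beq (cnt S (rep c)) (cnt S 4))

theorem cases_ok : ((List.range 32).all fun S => cases (2 * S + 1)) = true := by decide +kernel

theorem size_ok : (((List.range 1024).filter fun z => Nat.testBit 3 (code z)).length = 22 ∧
    ((List.range 1024).filter fun z => Nat.testBit 5 (code z)).length = 22 ∧
    ((List.range 1024).filter fun z => Nat.beq (code z) 1).length = 21 ∧
    ((List.range 1024).filter fun z => Nat.beq (code z) 5).length = 560) := by decide +kernel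

theorem count_filter (p : ℕ → Bool) :
    ((List.range 1024).filter p).length = {z : ℕ | z < 1024 ∧ p z = true}.ncard := by
  have h : {z : ℕ | z < 1024 ∧ p z = true} = (((List.range 1024).filter p).toFinset : Set ℕ) := by
    ext z; simp
  rw [h, Set.ncard_coe_finset, List.toFinset_card_of_nodup (List.nodup_range.filter _)]

theorem exists_bits (P : ℕ → Prop) (n : ℕ) : ∃ S < 2 ^ n, ∀ c < n, (Nat.testBit S c = true ↔ P c) := by
  induction n with
  | zero => exact ⟨0, by norm_num, fun c hc => absurd hc (Nat.not_lt_zero c)⟩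
  | succ n ih =>
    obtain ⟨S, hS, h⟩ := ih
    by_cases hp : P n
    · refine ⟨2 ^ n + S, by rw [pow_succ]; omega, fun c hc => ?_⟩
      rcases Nat.lt_succ_iff_lt_or_eq.1 hc with hc | rfl
      · rw [Nat.testBit_two_pow_add_gt hc]; exact h c hc
      · rw [Nat.testBit_two_pow_add_eq, Nat.testBit_lt_two_pow hS]; simpa using hp
    · refine ⟨S, by rw [pow_succ]; omega, fun c hc => ?_⟩
      rcases Nat.lt_succ_iff_lt_or_eq.1 hc with hc | rfl
      · exact h c hc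
      · rw [Nat.testBit_lt_two_pow hS]; simpa using hp

/-- The exchange on vectors. -/
def swapV (a : ℕ) : ℕ := swapL.foldl (fun v j => TwoCert.app (nM j) v) a

theorem swap_ok : (Nat.beq (swapV (vt 1)) (vt 2) && Nat.beq (swapV (vt 2)) (vt 1) &&
    Nat.beq (code (vt 1)) 1 && Nat.beq (code (vt 2)) 1 && !(Nat.beq (Nat.xor (vt 1) (vt 2)) 0) &&
    swapL.all fun j => Nat.blt j 2) = true := by decide +kernel

theorem exists_swap : ∃ h ∈ NA, h * VA (vt 1) * h⁻¹ = VA (vt 2) ∧ h * VA (vt 2) * h⁻¹ = VA (vt 1) := by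
  have hk := swap_ok
  simp only [Bool.and_eq_true, Nat.beq_eq, List.all_eq_true, Nat.blt_eq] at hk
  obtain ⟨⟨⟨⟨⟨e1, e2⟩, -⟩, -⟩, -⟩, hl⟩ := hk
  have key : ∀ L : List ℕ, (∀ j ∈ L, j < 2) → ∃ h ∈ NA, ∀ a,
      h * VA a * h⁻¹ = VA (L.foldl (fun v j => TwoCert.app (nM j) v) a) := by
    intro L
    induction L with
    | nil => intro _; exact ⟨1, one_mem _, fun a => by simp⟩
    | cons j L ih =>
      intro hL
      obtain ⟨h, hN, hh⟩ := ih fun i hi => hL i (List.mem_cons_of_mem _ hi)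
      have hj := hL j List.mem_cons_self
      refine ⟨h * NH ⟨j, hj⟩, mul_mem hN (NH_mem _), fun a => ?_⟩
      rw [List.foldl_cons, ← hh, ← NH_VA ⟨j, hj⟩]
      group
  obtain ⟨h, hN, hh⟩ := key swapL hl
  exact ⟨h, hN, by rw [hh]; exact congrArg VA e1, by rw [hh]; exact congrArg VA e2⟩

/-! ### Fusion -/

universe u

variable {G : Type u} [Group G]

local notation "cz(" d ")" => Subgroup.centralizer ({d} : Set _)

/-- The facts about elementary subgroups of order 2^10 in the centraliser. -/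
def Concl (G : Type u) [Group G] (d : G) : Prop :=
  (∀ S : Subgroup G, S ≤ cz(d) → IsPGroup 2 S → ∀ B B' : Subgroup G, B ≤ S → B' ≤ S →
      Cfsg.IsElementaryAbelian 2 B → Cfsg.IsElementaryAbelian 2 B' →
      Nat.card B ≤ 2 ^ 10 ∧ (Nat.card B = 2 ^ 10 → Nat.card B' = 2 ^ 10 → B = B')) ∧
  (∃ B : Subgroup G, B ≤ cz(d) ∧ Cfsg.IsElementaryAbelian 2 B ∧ Nat.card B = 2 ^ 10) ∧
  ∀ B : Subgroup G, B ≤ cz(d) → Cfsg.IsElementaryAbelian 2 B → Nat.card B = 2 ^ 10 →
    Set.ncard {x : G | x ∈ B ∧ IsConj d x} = 22 ∧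
      ∀ x ∈ B, ∀ y ∈ B, IsConj d x → IsConj d y → ∃ n ∈ Subgroup.normalizer (B : Set G), n * x * n⁻¹ = y

variable {d : G} (φ : ↥(cz(d)) ≃* Fi22.H)

/-- The element of the group with given coordinates. -/
noncomputable def vg (a : ℕ) : G := ((φ.symm (VA a) : ↥(cz(d))) : G)

theorem vg_xor (a b : ℕ) : vg φ (a ^^^ b) = vg φ a * vg φ b := by rw [vg, VA_xor, map_mul]; rfl

theorem vg_inj {a b : ℕ} (ha : a < 1024) (hb : b < 1024) (h : vg φ a = vg φ b) : a = b :=
  VA_inj ha hb (φ.symm.injective (Subtype.ext h))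

theorem vg_zero : vg φ 0 = 1 := by rw [vg, VA_zero, map_one]; rfl

theorem vg_comm (a b : ℕ) : vg φ a * vg φ b = vg φ b * vg φ a := by
  rw [← vg_xor, ← vg_xor, Nat.xor_comm]

theorem vg_sq (a : ℕ) : vg φ a * vg φ a = 1 := by rw [← vg_xor, Nat.xor_self, vg_zero]

theorem mem_cz {g : G} : g ∈ cz(d) ↔ g * d = d * g := Subgroup.mem_centralizer_singleton_iff

/-- The centre goes to the centre. -/
def Centred : Prop := ((φ.symm (hgH 0) : ↥(cz(d))) : G) = d

theorem vg_four (hφ : Centred φ) : vg φ 4 = d := by rw [vg, VA_four]; exact hφ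

/-- The subgroup in the group. -/
noncomputable def AG : Subgroup G := A.map ((cz(d)).subtype.comp φ.symm.toMonoidHom)

theorem mem_AG {x : G} : x ∈ AG φ ↔ ∃ a < 1024, x = vg φ a := by
  constructor
  · rintro ⟨y, hy, rfl⟩
    obtain ⟨a, ha, rfl⟩ := mem_A.1 hy
    exact ⟨a, ha, rfl⟩
  · rintro ⟨a, ha, rfl⟩
    exact ⟨VA a, mem_A.2 ⟨a, ha, rfl⟩, rfl⟩

theorem card_AG : Nat.card (AG φ) = 2 ^ 10 :=
  (Subgroup.card_map_of_injective (f := (cz(d)).subtype.comp φ.symm.toMonoidHom)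
    fun _ _ h => φ.symm.injective (Subtype.ext h)).trans card_A

/-- The normaliser of the subgroup. -/
noncomputable def NG : Subgroup G := Subgroup.normalizer ((AG φ : Subgroup G) : Set G)

theorem mem_NG [Finite G] {n : G} (h : ∀ z < 1024, ∃ w < 1024, n * vg φ z * n⁻¹ = vg φ w) : n ∈ NG φ := by
  have hle : (AG φ).map (MulAut.conj n).toMonoidHom ≤ AG φ := by
    rintro _ ⟨x, hx, rfl⟩
    obtain ⟨z, hz, rfl⟩ := (mem_AG φ).1 hx
    obtain ⟨w, hw, ew⟩ := h z hz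
    exact (mem_AG φ).2 ⟨w, hw, ew⟩
  have heq : (AG φ).map (MulAut.conj n).toMonoidHom = AG φ := Subgroup.eq_of_le_of_card_ge hle
    (Subgroup.card_map_of_injective (MulAut.conj n).injective).ge
  rw [NG, Subgroup.mem_normalizer_iff]
  intro x
  constructor
  · exact fun hx => hle ⟨x, hx, rfl⟩
  · intro hx
    obtain ⟨u, hu, eu⟩ := (heq.symm ▸ hx : n * x * n⁻¹ ∈ (AG φ).map (MulAut.conj n).toMonoidHom)
    exact (mul_left_cancel (mul_right_cancel (show n * u * n⁻¹ = n * x * n⁻¹ from eu))) ▸ hu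

theorem NG_move {n : G} (hn : n ∈ NG φ) {z : ℕ} (hz : z < 1024) :
    ∃ w < 1024, n * vg φ z * n⁻¹ = vg φ w :=
  (mem_AG φ).1 ((Subgroup.mem_normalizer_iff.1 hn _).1 ((mem_AG φ).2 ⟨z, hz, rfl⟩))

theorem coe_symm_conj (e x : Fi22.H) : ((φ.symm (e * x * e⁻¹) : ↥(cz(d))) : G) =
    ((φ.symm e : ↥(cz(d))) : G) * ((φ.symm x : ↥(cz(d))) : G) * ((φ.symm e : ↥(cz(d))) : G)⁻¹ := by
  rw [map_mul, map_mul, map_inv]; rfl

theorem NA_to_NG [Finite G] {e : Fi22.H} (he : e ∈ NA) : ((φ.symm e : ↥(cz(d))) : G) ∈ NG φ := by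
  refine mem_NG φ fun z hz => ?_
  obtain ⟨w, hw, ew⟩ := mem_A.1 ((Subgroup.mem_normalizer_iff.1 he _).1 (mem_A.2 ⟨z, hz, rfl⟩))
  exact ⟨w, hw, by rw [vg, ← coe_symm_conj, ew]; rfl⟩

theorem isConj_of_cls {c : ℕ} {x y : Fi22.H} (hx : Cls c x) (hy : Cls c y) :
    IsConj ((φ.symm x : ↥(cz(d))) : G) ((φ.symm y : ↥(cz(d))) : G) := by
  obtain ⟨e, he⟩ := Cls.isConj hx hy
  exact isConj_iff.2 ⟨_, by rw [← coe_symm_conj, he]⟩

/-- An element carrying `d` into the subgroup can be chosen to normalise it. -/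
theorem exists_norm [Finite G] {a : ℕ} (h : IsConj d (vg φ a)) :
    ∃ n ∈ NG φ, n * d * n⁻¹ = vg φ a := by
  obtain ⟨g, hg⟩ := isConj_iff.1 h
  have hin : ∀ z, g⁻¹ * vg φ z * g ∈ cz(d) := fun z => by
    rw [mem_cz]
    have e : d = g⁻¹ * vg φ a * g := by rw [← hg]; group
    have key : g⁻¹ * vg φ z * g * (g⁻¹ * vg φ a * g) = g⁻¹ * vg φ a * g * (g⁻¹ * vg φ z * g) := by
      calc g⁻¹ * vg φ z * g * (g⁻¹ * vg φ a * g) = g⁻¹ * (vg φ z * vg φ a) * g := by group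
        _ = g⁻¹ * (vg φ a * vg φ z) * g := by rw [vg_comm]
        _ = _ := by group
    exact (congrArg (g⁻¹ * vg φ z * g * ·) e).trans (key.trans (congrArg (· * (g⁻¹ * vg φ z * g)) e.symm))
  let f : Fi22.H →* G := (MulAut.conj g).toMonoidHom.comp ((cz(d)).subtype.comp φ.symm.toMonoidHom)
  have hf : Function.Injective f :=
    (MulAut.conj g).injective.comp ((Subgroup.subtype_injective _).comp φ.symm.injective)
  set B : Subgroup Fi22.H := (AG φ).comap f
  have hB : ∀ x : Fi22.H, x ∈ B ↔ ∃ z < 1024, ((φ.symm x : ↥(cz(d))) : G) = g⁻¹ * vg φ z * g := by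
    intro x
    show g * ((φ.symm x : ↥(cz(d))) : G) * g⁻¹ ∈ AG φ ↔ _
    rw [mem_AG]
    exact exists_congr fun z => and_congr_right fun _ =>
      ⟨fun h => by rw [← h]; group, fun h => by rw [h]; group⟩
  have hel : Cfsg.IsElementaryAbelian 2 B := by
    refine ⟨⟨⟨fun x y => Subtype.ext (hf ?_)⟩⟩, fun x hx => hf ?_⟩
    · obtain ⟨a, -, ea⟩ := (mem_AG φ).1 (show f x ∈ AG φ from x.2)
      obtain ⟨b, -, eb⟩ := (mem_AG φ).1 (show f y ∈ AG φ from y.2)
      rw [Subgroup.coe_mul, Subgroup.coe_mul, map_mul, map_mul, ea, eb, vg_comm]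
    · obtain ⟨a, -, ea⟩ := (mem_AG φ).1 (show f x ∈ AG φ from hx)
      rw [map_pow, map_one, ea, sq, vg_sq]
  have hcard : Nat.card B = 2 ^ 10 := by
    have hmap : B.map f = AG φ := Subgroup.map_comap_eq_self fun x hx => by
      obtain ⟨z, -, rfl⟩ := (mem_AG φ).1 hx
      exact ⟨φ ⟨_, hin z⟩, by
        show g * ((φ.symm (φ ⟨_, hin z⟩) : ↥(cz(d))) : G) * g⁻¹ = vg φ z
        rw [φ.symm_apply_apply]; group⟩
    rw [← Subgroup.card_map_of_injective hf, hmap, card_AG]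
  obtain ⟨e, he⟩ := elem_conj hel hcard
  set e' : G := ((φ.symm e : ↥(cz(d))) : G)
  refine ⟨g * e', mem_NG φ fun z hz => ?_, ?_⟩
  · obtain ⟨w, hw, ew⟩ := (hB _).1 ((he _).2 ⟨z, hz, rfl⟩)
    rw [coe_symm_conj] at ew
    change e' * vg φ z * e'⁻¹ = _ at ew
    refine ⟨w, hw, ?_⟩
    calc g * e' * vg φ z * (g * e')⁻¹ = g * (e' * vg φ z * e'⁻¹) * g⁻¹ := by group
      _ = vg φ w := by rw [ew]; group
  · rw [mul_inv_rev, ← hg]
    calc g * e' * d * (e'⁻¹ * g⁻¹) = g * (e' * d) * e'⁻¹ * g⁻¹ := by group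
      _ = g * d * g⁻¹ := by rw [mem_cz.1 (show e' ∈ cz(d) from (φ.symm e).2)]; group

/-- Not every involution of the subgroup is a conjugate. -/
theorem not_all [Finite G] (hφ : Centred φ) (hd1 : d ≠ 1)
    (hall : ∀ a, a < 1024 → a ≠ 0 → IsConj d (vg φ a)) : False := by
  classical
  have hk := swap_ok
  simp only [Bool.and_eq_true, Nat.beq_eq, List.all_eq_true, Nat.blt_eq, Bool.not_eq_true'] at hk
  obtain ⟨⟨⟨⟨⟨-, -⟩, c1⟩, c2⟩, hx0⟩, -⟩ := hk
  have hv1 := vt_lt (show 1 < 22 by norm_num)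
  have hv2 := vt_lt (show 2 < 22 by norm_num)
  have hxlt : vt 1 ^^^ vt 2 < 1024 := Nat.xor_lt_two_pow (n := 10) hv1 hv2
  choose! n hnN hn using fun a (h : a < 1024 ∧ a ≠ 0) => exists_norm φ (hall a h.1 h.2)
  obtain ⟨t, htN, ht⟩ := exists_norm φ (hall _ hxlt (Nat.ne_of_beq_eq_false hx0))
  set m := t⁻¹
  have hmN : m ∈ NG φ := inv_mem htN
  have hmx : m * vg φ (vt 1 ^^^ vt 2) * m⁻¹ = d := by rw [← ht]; simp only [m]; group
  obtain ⟨b₀, hb₀, eb₀⟩ := NG_move φ hmN hv1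
  -- its class is the last
  have hb5 : code b₀ = 5 := by
    obtain ⟨h, -, hh1, hh2⟩ := exists_swap
    set h' : G := ((φ.symm h : ↥(cz(d))) : G)
    have hu : h' * vg φ (vt 1) * h'⁻¹ = vg φ (vt 2) := by rw [vg, ← coe_symm_conj, hh1]; rfl
    have hv : h' * vg φ (vt 2) * h'⁻¹ = vg φ (vt 1) := by rw [vg, ← coe_symm_conj, hh2]; rfl
    have hk' : m * h' * m⁻¹ ∈ cz(d) := by
      have hx : h' * vg φ (vt 1 ^^^ vt 2) * h'⁻¹ = vg φ (vt 1 ^^^ vt 2) := by
        calc h' * vg φ (vt 1 ^^^ vt 2) * h'⁻¹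
            = (h' * vg φ (vt 1) * h'⁻¹) * (h' * vg φ (vt 2) * h'⁻¹) := by rw [vg_xor]; group
          _ = _ := by rw [hu, hv, ← vg_xor, Nat.xor_comm]
      rw [mem_cz, ← hmx]
      calc m * h' * m⁻¹ * (m * vg φ (vt 1 ^^^ vt 2) * m⁻¹)
          = m * (h' * vg φ (vt 1 ^^^ vt 2) * h'⁻¹) * h' * m⁻¹ := by group
        _ = m * vg φ (vt 1 ^^^ vt 2) * m⁻¹ * (m * h' * m⁻¹) := by rw [hx]; group
    set k : ↥(cz(d)) := ⟨m * h' * m⁻¹, hk'⟩
    have hflip : φ k * VA b₀ * (φ k)⁻¹ = VA b₀ * hgH 0 := by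
      refine φ.symm.injective (Subtype.ext ?_)
      rw [coe_symm_conj, map_mul, φ.symm_apply_apply]
      show m * h' * m⁻¹ * vg φ b₀ * (m * h' * m⁻¹)⁻¹ = vg φ b₀ * _
      rw [show ((φ.symm (hgH 0) : ↥(cz(d))) : G) = d from hφ, ← eb₀]
      calc m * h' * m⁻¹ * (m * vg φ (vt 1) * m⁻¹) * (m * h' * m⁻¹)⁻¹
          = m * (h' * vg φ (vt 1) * h'⁻¹) * m⁻¹ := by group
        _ = m * (vg φ (vt 1) * vg φ (vt 1 ^^^ vt 2)) * m⁻¹ := by
          rw [hu, vg_xor, ← mul_assoc (vg φ (vt 1)) (vg φ (vt 1)), vg_sq, one_mul]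
        _ = m * vg φ (vt 1) * m⁻¹ * (m * vg φ (vt 1 ^^^ vt 2) * m⁻¹) := by group
        _ = _ := congrArg (m * vg φ (vt 1) * m⁻¹ * ·) hmx
    have hinv := inv2_conj (isConj_iff.2 ⟨φ k, hflip⟩ : IsConj (VA b₀) (VA b₀ * hgH 0))
    have hsymm : (inv2 (VA b₀)).1 = (inv2 (VA b₀)).2 := congrArg Prod.fst hinv
    rcases code_spec hb₀ with ⟨h5, hc⟩ | rfl
    · rw [← inv2_conj hc, inv2_rep h5] at hsymm
      revert hsymm
      generalize code b₀ = c at h5
      interval_cases c <;> simp [invs]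
    · rw [VA_zero, inv2] at hsymm
      simp only [one_mul, Subgroup.coe_one] at hsymm
      rw [fix_one, ← VA_four] at hsymm
      have h4 := inv2_rep (show 0 ≤ 5 by norm_num)
      rw [show rep 0 = 4 from rfl, inv2] at h4
      have h5 : Fi22Two.fix ((VA 4 : Fi22.H) : G₀) = (invs 0).1 := congrArg Prod.fst h4
      rw [h5] at hsymm
      simp [invs] at hsymm
  let S : ℕ → Set ℕ := fun c => {z | z < 1024 ∧ Nat.beq (code z) c = true}
  let I : Set ℕ := {a | a < 1024 ∧ a ≠ 0}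
  have hSfin : ∀ c, (S c).Finite := fun c => (Set.finite_lt_nat 1024).subset fun z h => h.1
  have hIfin : I.Finite := (Set.finite_lt_nat 1024).subset fun z h => h.1
  let O : Set (G × G) :=
    {q | ∃ g ∈ NG φ, g * vg φ (vt 1 ^^^ vt 2) * g⁻¹ = q.1 ∧ g * vg φ (vt 1) * g⁻¹ = q.2}
  let F : ℕ × ℕ × ℕ → G × G := fun p =>
    (n p.1 * (vg φ p.2.1 * vg φ p.2.2) * (n p.1)⁻¹, n p.1 * vg φ p.2.1 * (n p.1)⁻¹)
  have hsub : O ⊆ F '' (I ×ˢ (S 1 ×ˢ S 1)) := by
    rintro ⟨u, v⟩ ⟨g, hg, eu, ev⟩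
    dsimp only at eu ev
    obtain ⟨a, ha, ea⟩ := NG_move φ hg (show 4 < 1024 by norm_num)
    rw [vg_four φ hφ] at ea
    have haI : a < 1024 ∧ a ≠ 0 := ⟨ha, fun h => by
      subst h
      rw [vg_zero, mul_inv_eq_one] at ea
      exact hd1 (mul_left_cancel (ea.trans (mul_one g).symm))⟩
    have heN : (n a)⁻¹ * g ∈ NG φ := mul_mem (inv_mem (hnN a haI)) hg
    have hec : (n a)⁻¹ * g ∈ cz(d) := by
      rw [mem_cz]
      have h1 : g * d * g⁻¹ = n a * d * (n a)⁻¹ := ea.trans (hn a haI).symm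
      calc (n a)⁻¹ * g * d = (n a)⁻¹ * (g * d * g⁻¹) * g := by group
        _ = d * ((n a)⁻¹ * g) := by rw [h1]; group
    have hone : ∀ j, vt j < 1024 → code (vt j) = 1 → ∃ b ∈ S 1,
        (n a)⁻¹ * g * vg φ (vt j) * ((n a)⁻¹ * g)⁻¹ = vg φ b := by
      intro j hj hc
      obtain ⟨b, hb, eb⟩ := NG_move φ heN hj
      refine ⟨b, ⟨hb, ?_⟩, eb⟩
      have hh : φ ⟨_, hec⟩ * VA (vt j) * (φ ⟨_, hec⟩)⁻¹ = VA b :=
        φ.symm.injective (Subtype.ext (by rw [coe_symm_conj, φ.symm_apply_apply]; exact eb))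
      obtain ⟨-, h1⟩ := (code_spec hj).resolve_right fun h => by rw [h, code_zero.1] at hc; omega
      rw [hc] at h1
      have h2 : Cls 1 (VA b) := hh ▸ h1.conj _
      rcases code_spec hb with ⟨h5, hcb⟩ | rfl
      · rw [Cls.unique (by norm_num) h5 h2 hcb]; simp
      · exfalso
        have h3 := inv2_conj h2
        rw [inv2_rep (by norm_num), VA_zero, inv2] at h3
        simp only [Subgroup.coe_one, fix_one, invs] at h3
        simp at h3
    obtain ⟨b, hb, eb⟩ := hone 1 hv1 c1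
    obtain ⟨c, hc, ec⟩ := hone 2 hv2 c2
    refine ⟨(a, b, c), ⟨haI, hb, hc⟩, Prod.ext ?_ ?_⟩
    · show n a * (vg φ b * vg φ c) * (n a)⁻¹ = u
      rw [← eb, ← ec, ← eu, vg_xor]; group
    · show n a * vg φ b * (n a)⁻¹ = v
      rw [← eb, ← ev]; group
  let L : ℕ × ℕ → G × G := fun p => (vg φ p.1, n p.1 * vg φ p.2 * (n p.1)⁻¹)
  have hinj : Set.InjOn L (I ×ˢ S 5) := by
    rintro ⟨a, b⟩ ⟨ha, hb⟩ ⟨a', b'⟩ ⟨ha', hb'⟩ e
    have ea := vg_inj φ ha.1 ha'.1 (congrArg Prod.fst e)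
    subst ea
    exact Prod.ext rfl (vg_inj φ hb.1 hb'.1 (mul_left_cancel (mul_right_cancel (congrArg Prod.snd e))))
  have hsub' : L '' (I ×ˢ S 5) ⊆ O := by
    rintro _ ⟨⟨a, b⟩, ⟨ha, hb, hb5'⟩, rfl⟩
    rw [Nat.beq_eq] at hb5'
    obtain ⟨e₁, he₁, h₁⟩ := code_norm hb₀ (by omega) (by omega)
    obtain ⟨e₂, he₂, h₂⟩ := code_norm hb (by omega) (by omega)
    rw [hb5] at h₁
    rw [hb5'] at h₂
    set e := e₂ * e₁⁻¹
    have he : e * VA b₀ * e⁻¹ = VA b := by rw [← h₁, ← h₂]; simp only [e]; group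
    set e' : G := ((φ.symm e : ↥(cz(d))) : G)
    have heb : e' * vg φ b₀ * e'⁻¹ = vg φ b := by rw [vg, ← coe_symm_conj, he]; rfl
    refine ⟨n a * e' * m, mul_mem (mul_mem (hnN a ha) (NA_to_NG φ (mul_mem he₂ (inv_mem he₁)))) hmN, ?_, ?_⟩
    · show n a * e' * m * vg φ (vt 1 ^^^ vt 2) * (n a * e' * m)⁻¹ = vg φ a
      rw [← hn a ha]
      calc n a * e' * m * vg φ (vt 1 ^^^ vt 2) * (n a * e' * m)⁻¹
          = n a * (e' * (m * vg φ (vt 1 ^^^ vt 2) * m⁻¹)) * e'⁻¹ * (n a)⁻¹ := by group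
        _ = n a * d * (n a)⁻¹ := by rw [hmx, mem_cz.1 (show e' ∈ cz(d) from (φ.symm e).2)]; group
    · show n a * e' * m * vg φ (vt 1) * (n a * e' * m)⁻¹ = n a * vg φ b * (n a)⁻¹
      rw [← heb, ← eb₀]; group
  have hI : I.ncard = 1023 := by
    have : I = ((Finset.range 1024).erase 0 : Finset ℕ) := by ext a; simp [I, and_comm]
    rw [this, Set.ncard_coe_finset]; simp
  have hS : ∀ c, (S c).ncard = ((List.range 1024).filter fun z => Nat.beq (code z) c).length :=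
    fun c => (count_filter _).symm
  have hfin := hIfin.prod ((hSfin 1).prod (hSfin 1))
  have hle := Set.ncard_le_ncard (hsub'.trans hsub) (hfin.image F)
  rw [Set.ncard_image_of_injOn hinj] at hle
  have hle := hle.trans (Set.ncard_image_le hfin)
  rw [Set.ncard_prod, Set.ncard_prod, Set.ncard_prod, hI, hS, hS, size_ok.2.2.1, size_ok.2.2.2] at hle
  norm_num at hle

theorem main [Finite G] (hφ : Centred φ) (hd : d * d = 1) (hd1 : d ≠ 1)
    (hnwc : ∃ g : G, g * d * g⁻¹ ∈ cz(d) ∧ g * d * g⁻¹ ≠ d) : Concl G d := by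
  classical
  let P : ℕ → Prop := fun c => ∃ a < 1024, a ≠ 0 ∧ code a = c ∧ IsConj d (vg φ a)
  obtain ⟨S, hS, hbit⟩ := exists_bits P 6
  have hmem : ∀ a < 1024, (IsConj d (vg φ a) ↔ Nat.testBit S (code a) = true) := by
    intro a ha
    by_cases h0 : a = 0
    · subst h0
      rw [vg_zero, code_zero.1, Nat.testBit_lt_two_pow (hS.trans (by norm_num : (2 : ℕ) ^ 6 < 2 ^ 7))]
      simp [isConj_one_left, hd1]
    obtain ⟨h5, hc⟩ := (code_spec ha).resolve_right h0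
    rw [hbit _ (by omega)]
    refine ⟨fun h => ⟨a, ha, h0, rfl, h⟩, ?_⟩
    rintro ⟨b, hb, hb0, e, h⟩
    obtain ⟨-, hcb⟩ := (code_spec hb).resolve_right hb0
    exact h.trans (isConj_of_cls φ (e ▸ hcb) hc)
  have hS0 : Nat.testBit S 0 = true := code_zero.2 ▸ (hmem 4 (by norm_num)).1 (by rw [vg_four φ hφ])
  have hSc := List.all_eq_true.1 cases_ok (S / 2) (List.mem_range.2 (by omega))
  rw [show 2 * (S / 2) + 1 = S by
    have : S % 2 = 1 := by simpa [Nat.testBit_zero] using hS0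
    omega] at hSc
  have hconst : ∀ a < 1024, Nat.testBit S (code a) = true → cnt S a = cnt S 4 := by
    intro a ha hSa
    obtain ⟨n, hnN, hn⟩ := exists_norm φ ((hmem a ha).2 hSa)
    choose! w hw hnw using fun z (hz : z < 1024) => NG_move φ hnN hz
    simp only [cnt, count_filter]
    have hinj : ∀ z < 1024, ∀ z' < 1024, w z = w z' → z = z' := fun z hz z' hz' e => by
      have h1 := hnw z hz
      rw [e, ← hnw z' hz'] at h1
      exact vg_inj φ hz hz' (mul_left_cancel (mul_right_cancel h1))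
    have hxor : ∀ z < 1024, w (z ^^^ 4) = w z ^^^ a := fun z hz => by
      have hz' : z ^^^ 4 < 1024 := Nat.xor_lt_two_pow (n := 10) hz (by norm_num)
      refine vg_inj φ (hw _ hz') (Nat.xor_lt_two_pow (n := 10) (hw z hz) ha) ?_
      rw [vg_xor, ← hnw _ hz', ← hnw z hz, vg_xor, vg_four φ hφ, ← hn]; group
    have hpres : ∀ z < 1024, Nat.testBit S (code (w z)) = Nat.testBit S (code z) := fun z hz => by
      rw [Bool.eq_iff_iff, ← hmem _ (hw z hz), ← hmem z hz, ← hnw z hz]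
      exact ⟨fun h => h.trans (isConj_iff.2 ⟨n, rfl⟩).symm, fun h => h.trans (isConj_iff.2 ⟨n, rfl⟩)⟩
    suffices hb : Set.BijOn w {z | z < 1024 ∧ (Nat.testBit S (code z) && Nat.testBit S (code (Nat.xor z 4))) = true}
        {z | z < 1024 ∧ (Nat.testBit S (code z) && Nat.testBit S (code (Nat.xor z a))) = true} by
      rw [← hb.image_eq]
      exact Set.ncard_image_of_injOn hb.injOn
    refine ⟨?_, fun z hz z' hz' e => hinj z hz.1 z' hz'.1 e, ?_⟩
    · rintro z ⟨hz, h⟩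
      refine ⟨hw z hz, ?_⟩
      show (Nat.testBit S (code (w z)) && Nat.testBit S (code (w z ^^^ a))) = true
      rw [← hxor z hz, hpres z hz, hpres _ (Nat.xor_lt_two_pow (n := 10) hz (by norm_num))]
      exact h
    · rintro y ⟨hy, h⟩
      have hi : Function.Injective fun z : Fin 1024 => (⟨w z, hw z z.2⟩ : Fin 1024) :=
        fun z z' e => Fin.ext (hinj z z.2 z' z'.2 (congrArg Fin.val e))
      obtain ⟨⟨z, hz⟩, e⟩ := (Finite.injective_iff_surjective.1 hi) ⟨y, hy⟩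
      have e' : w z = y := congrArg Fin.val e
      subst e'
      refine ⟨z, ⟨hz, ?_⟩, rfl⟩
      change (Nat.testBit S (code (w z)) && Nat.testBit S (code (w z ^^^ a))) = true at h
      rw [← hxor z hz, hpres z hz, hpres _ (Nat.xor_lt_two_pow (n := 10) hz (by norm_num))] at h
      exact h
  have hfour : S = 1 ∨ S = 3 ∨ S = 5 ∨ S = 63 := by
    rw [cases, Bool.or_eq_true] at hSc
    rcases hSc with h | h
    · simp only [List.any_cons, List.any_nil, Bool.or_eq_true, Nat.beq_eq, Bool.false_eq_true, or_false] at h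
      exact h
    · simp only [List.any_eq_true, List.mem_range, Bool.and_eq_true, Bool.not_eq_true'] at h
      obtain ⟨c, hc, hb, hne⟩ := h
      obtain ⟨hr, hr'⟩ := rep_spec (show c ≤ 5 by omega)
      exact absurd (hconst _ hr (hr'.symm ▸ hb)) (Nat.ne_of_beq_eq_false hne)
  have h35 : S = 3 ∨ S = 5 := by
    rcases hfour with rfl | rfl | rfl | rfl
    · obtain ⟨g, hgC, hgne⟩ := hnwc
      have hconj : IsConj d (g * d * g⁻¹) := isConj_iff.2 ⟨g, rfl⟩
      set x := φ ⟨_, hgC⟩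
      have hx : ((φ.symm x : ↥(cz(d))) : G) = g * d * g⁻¹ := by simp [x]
      obtain ⟨c, h1, h5, hc⟩ := exists_cls (x := x)
        (φ.symm.injective (Subtype.ext (by
          rw [map_mul, map_one, Subgroup.coe_mul, hx, Subgroup.coe_one,
            show g * d * g⁻¹ * (g * d * g⁻¹) = g * (d * d) * g⁻¹ by group, hd]
          group)))
        (fun e => hd1 (isConj_one_left.1 (by
          rw [e, map_one, Subgroup.coe_one] at hx
          exact hx ▸ hconj)))
        (fun e => hgne (by rw [← hx, e]; exact hφ))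
      obtain ⟨hr, hr'⟩ := rep_spec h5
      have := (hmem _ hr).1 ((hx ▸ hconj).trans (isConj_of_cls φ hc (IsConj.refl _)))
      rw [hr'] at this
      interval_cases c <;> (revert this; decide)
    · exact Or.inl rfl
    · exact Or.inr rfl
    · exact absurd (fun a ha h0 => (hmem a ha).2 (by
        obtain ⟨h5, -⟩ := (code_spec ha).resolve_right h0
        generalize code a = c at h5 ⊢
        interval_cases c <;> rfl)) (not_all φ hφ hd1)
  have hcount : {z : ℕ | z < 1024 ∧ Nat.testBit S (code z) = true}.ncard = 22 := by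
    rw [← count_filter]
    rcases h35 with rfl | rfl
    · exact size_ok.1
    · exact size_ok.2.1
  have hsubH : ∀ {B : Subgroup G}, B ≤ cz(d) → Cfsg.IsElementaryAbelian 2 B →
      Cfsg.IsElementaryAbelian 2 ((B.subgroupOf (cz(d))).map φ.toMonoidHom) ∧
        Nat.card ((B.subgroupOf (cz(d))).map φ.toMonoidHom) = Nat.card B := by
    intro B hB he
    refine ⟨⟨⟨⟨fun x y => ?_⟩⟩, ?_⟩, (Subgroup.card_map_of_injective φ.injective).trans
      (Nat.card_congr (Subgroup.subgroupOfEquivOfLe hB).toEquiv)⟩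
    · obtain ⟨a, ha, ea⟩ := x.2
      obtain ⟨b, hb, eb⟩ := y.2
      refine Subtype.ext ?_
      rw [Subgroup.coe_mul, Subgroup.coe_mul, ← ea, ← eb, ← map_mul, ← map_mul]
      exact congrArg _ (Subtype.ext (congrArg (fun t : B => (t : G)) (he.1.is_comm.comm ⟨_, ha⟩ ⟨_, hb⟩)))
    · rintro _ ⟨a, ha, rfl⟩
      rw [← map_pow, show a ^ 2 = 1 from Subtype.ext (by simpa using he.2 _ ha), map_one]
  refine ⟨?_, ?_, ?_⟩
  · intro T hT hT2 B B' hB hB' he he'
    have hT2' : IsPGroup 2 ((T.subgroupOf (cz(d))).map φ.toMonoidHom) :=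
      (hT2.of_equiv (Subgroup.subgroupOfEquivOfLe hT).symm).map _
    obtain ⟨e1, c1⟩ := hsubH (hB.trans hT) he
    obtain ⟨e2, c2⟩ := hsubH (hB'.trans hT) he'
    obtain ⟨hb, hu⟩ := elem_unique hT2' (Subgroup.map_mono fun x hx => hB hx)
      (Subgroup.map_mono fun x hx => hB' hx) e1 e2
    rw [c1, c2] at hu
    rw [c1] at hb
    refine ⟨hb, fun h1 h2 => ?_⟩
    rw [← Subgroup.map_subgroupOf_eq_of_le (hB.trans hT), Subgroup.map_injective φ.injective (hu h1 h2),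
      Subgroup.map_subgroupOf_eq_of_le (hB'.trans hT)]
  · refine ⟨AG φ, fun x hx => ?_, ⟨⟨⟨fun x y => ?_⟩⟩, ?_⟩, card_AG φ⟩
    · obtain ⟨a, -, rfl⟩ := (mem_AG φ).1 hx
      exact (φ.symm (VA a)).2
    · obtain ⟨a, -, ea⟩ := (mem_AG φ).1 x.2
      obtain ⟨b, -, eb⟩ := (mem_AG φ).1 y.2
      exact Subtype.ext (by rw [Subgroup.coe_mul, Subgroup.coe_mul, ea, eb, vg_comm])
    · intro x hx
      obtain ⟨a, -, rfl⟩ := (mem_AG φ).1 hx
      rw [sq, vg_sq]
  · intro B hB he hc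
    obtain ⟨e1, c1⟩ := hsubH hB he
    obtain ⟨e₀, hBe⟩ := elem_conj e1 (c1.trans hc)
    set e : G := ((φ.symm e₀ : ↥(cz(d))) : G)
    have hmB : ∀ x : G, x ∈ B ↔ ∃ a < 1024, x = e * vg φ a * e⁻¹ := by
      intro x
      constructor
      · intro hx
        obtain ⟨a, ha, ea⟩ := (hBe (φ ⟨x, hB hx⟩)).1 ⟨⟨x, hB hx⟩, hx, rfl⟩
        refine ⟨a, ha, ?_⟩
        have := congrArg (fun t => ((φ.symm t : ↥(cz(d))) : G)) ea
        simpa [coe_symm_conj, vg, e] using this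
      · rintro ⟨a, ha, rfl⟩
        obtain ⟨y, hy, ey⟩ := (hBe (e₀ * VA a * e₀⁻¹)).2 ⟨a, ha, rfl⟩
        have := congrArg (fun t => ((φ.symm t : ↥(cz(d))) : G)) ey
        simp only [MulEquiv.coe_toMonoidHom, φ.symm_apply_apply, coe_symm_conj] at this
        exact this ▸ hy
    have hconj : ∀ a, (IsConj d (e * vg φ a * e⁻¹) ↔ IsConj d (vg φ a)) := fun a =>
      ⟨fun h => h.trans (isConj_iff.2 ⟨e, rfl⟩).symm, fun h => h.trans (isConj_iff.2 ⟨e, rfl⟩)⟩
    refine ⟨?_, ?_⟩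
    · rw [← hcount]
      have himg : {x : G | x ∈ B ∧ IsConj d x} = (fun a => e * vg φ a * e⁻¹) ''
          {z : ℕ | z < 1024 ∧ Nat.testBit S (code z) = true} := by
        ext x
        constructor
        · rintro ⟨hx, hx'⟩
          obtain ⟨a, ha, rfl⟩ := (hmB x).1 hx
          exact ⟨a, ⟨ha, (hmem a ha).1 ((hconj a).1 hx')⟩, rfl⟩
        · rintro ⟨a, ⟨ha, h⟩, rfl⟩
          exact ⟨(hmB _).2 ⟨a, ha, rfl⟩, (hconj a).2 ((hmem a ha).2 h)⟩
      rw [himg]
      exact Set.ncard_image_of_injOn fun a ha b hb h =>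
        vg_inj φ ha.1 hb.1 (mul_left_cancel (mul_right_cancel h))
    · intro x hx y hy hdx hdy
      obtain ⟨a, ha, rfl⟩ := (hmB x).1 hx
      obtain ⟨b, hb, rfl⟩ := (hmB y).1 hy
      obtain ⟨n, hnN, hn⟩ := exists_norm φ ((hconj a).1 hdx)
      obtain ⟨m, hmN, hm⟩ := exists_norm φ ((hconj b).1 hdy)
      let k := e * (m * n⁻¹) * e⁻¹
      have hk : m * n⁻¹ ∈ NG φ := mul_mem hmN (inv_mem hnN)
      have hBeq : ∀ x : G, x ∈ B ↔ e⁻¹ * x * e ∈ AG φ := fun x => by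
        rw [hmB, mem_AG]
        exact exists_congr fun z => and_congr_right fun _ =>
          ⟨fun h => by rw [h]; group, fun h => by rw [← h]; group⟩
      refine ⟨k, Subgroup.mem_normalizer_iff.2 fun x => ?_, ?_⟩
      · show x ∈ B ↔ k * x * k⁻¹ ∈ B
        rw [hBeq, hBeq, (Subgroup.mem_normalizer_iff.1 hk _ : _ ↔ _)]
        simp only [k]
        rw [show e⁻¹ * (e * (m * n⁻¹) * e⁻¹ * x * (e * (m * n⁻¹) * e⁻¹)⁻¹) * e
          = m * n⁻¹ * (e⁻¹ * x * e) * (m * n⁻¹)⁻¹ by group]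
      · simp only [k]
        rw [← hn, ← hm]
        group

end Cfsg.Agent.U62Cover
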