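import Cfsg.Agent.Lib.U62Cover.Outer
import Cfsg.Agent.Lib.FischerPresented.Fi22Two

/-!
A perfect double cover of PSU₆(2) is the point stabiliser of the presented Fi22: the lifts of the transvections
carry two products in the centre; an outer automorphism of order three moves these cyclically, so both may be
taken nontrivial, and then every relator has the value it has in the stabiliser.
-/

set_option autoImplicit false
set_option maxRecDepth 100000
set_option maxHeartbeats 1000000

namespace Cfsg.Agent.U62Cover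

open Cfsg.Agent.CosetCert
open Cfsg.Agent.CosetData
open Cfsg.Agent.FischerPresented
open Cfsg.Agent.FischerPresented.Out22 (hm tr)
open Cfsg.Agent.FischerPresented.U62 (inO θ hgH)
open Cfsg.Agent.FischerPresented.Mult22 (val ext val_nil val_cons val_append)
open Cfsg.Agent.FischerPresented.Mult6 (PU trH trQ IsLift6 run paths base moves comA comB comK resA resH resB
  resE moveA moveB moveH3 moveEHH)

local notation "G₀" => Setup.G Fi22B.setup

/-- A double cover with normalised lifts of the transvections. -/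
structure Cov (E : Type) [Group E] where
  σ : E →* PU
  d : E
  T : Fin 3510 → E
  surj : Function.Surjective σ
  d_sq : d * d = 1
  d_ne : d ≠ 1
  map_d : σ d = 1
  central : ∀ x : E, Commute d x
  ker_cases : ∀ x : E, σ x = 1 → x = 1 ∨ x = d
  isLift : IsLift6 T
  mapT : ∀ p : Fin 3510, inO (p : ℕ) = true → σ (T p) = trQ p
  val_A : val T comA = 1

/-- The coset of index `i`. -/
def qp (i : ℕ) : Fin 3510 := ⟨qn.getD i 0 % 3510, Nat.mod_lt _ (by norm_num)⟩

/-- The vector of index `i`. -/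
def vec (i : ℕ) : ℕ := v11.getD i 0

theorem qn_ok : ((List.range 22).all fun i => Nat.blt (qn.getD i 0) 3510 && (Nat.beq i 0 || inO (qn.getD i 0)))
    = true := by decide +kernel

theorem qp_val {i : ℕ} (hi : i < 22) : (qp i : ℕ) = qn.getD i 0 := by
  have h := List.all_eq_true.1 qn_ok i (List.mem_range.2 hi)
  simp only [Bool.and_eq_true, Nat.blt_eq] at h
  exact Nat.mod_eq_of_lt h.1

theorem qp_inO {i : ℕ} (hi : i < 22) (h0 : i ≠ 0) : inO (qp i : ℕ) = true := by
  have h := List.all_eq_true.1 qn_ok i (List.mem_range.2 hi)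
  simp only [Bool.and_eq_true, Bool.or_eq_true, Nat.beq_eq] at h
  rw [qp_val hi]
  exact h.2.resolve_left h0

theorem qn_comm : ((List.range 22).all fun i => (List.range 22).all fun j =>
    Nat.beq (Fi22Local.tapp (qn.getD i 0) (qn.getD j 0)) (qn.getD j 0)) = true := by decide +kernel

theorem qp_fix {i j : ℕ} (hi : i < 22) (hj : j < 22) : hm (tr (qp i)) (qp j) = qp j := by
  have h := List.all_eq_true.1 (List.all_eq_true.1 qn_comm i (List.mem_range.2 hi)) j (List.mem_range.2 hj)
  rw [Nat.beq_eq, ← qp_val hi, ← qp_val hj] at h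
  refine Fin.ext ?_
  rw [← Fi22Local.apt_of_lt _ (qp j).2, ← Fi22Local.trN_eq (qp i).2, Fi22Local.apt_trN (qp i).2 (qp j).2]
  exact h

/-- The product of a relation with its residue. -/
def kindRel (k : ℕ) : List ℕ := [comA, comB, comK].getD k []

/-- The vector of a relation. -/
def kindVec (k : ℕ) : ℕ := [0, 512, 1024].getD k 0

/-- A word of the stabiliser moving a list of points to the given indices. -/
noncomputable def movesOK (w r idx : List ℕ) : Bool :=
  Fi22Local.wok w && Nat.beq (Fi22Local.act w 0) 0 && (r.all fun p => Nat.blt p 3510 && inO p) &&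
    (idx.all fun i => Nat.blt i 22 && !(Nat.beq i 0)) &&
    (r.map (Fi22Local.act w) == idx.map fun i => qn.getD i 0)

/-- One step of the derivation of the vectors. -/
noncomputable def stepOK (known : List ℕ) (s : ℕ × List ℕ × ℕ × List ℕ) : Bool :=
  match s.2.2.2 with
  | [] => false
  | u :: t => Nat.blt s.1 3 &&
      movesOK s.2.1 ((kindRel s.1).drop s.2.2.1 ++ (kindRel s.1).take s.2.2.1) (u :: t) &&
      t.all (fun i => known.any (Nat.beq i)) &&
      Nat.beq (vec u) (Nat.xor (kindVec s.1) (t.foldr (fun i a => Nat.xor (vec i) a) 0))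

/-- All steps in order. -/
noncomputable def chainOK : List ℕ → List (ℕ × List ℕ × ℕ × List ℕ) → Bool
  | known, [] => (List.range 22).all fun i => Nat.beq i 0 || known.any (Nat.beq i)
  | known, s :: ss => stepOK known s && chainOK (s.2.2.2.headD 0 :: known) ss

theorem chain9_ok : chainOK b9 steps9 = true := by decide +kernel

theorem b9_ok : ((List.range 9).all fun k => Nat.beq (vec (b9.getD k 0)) (2 ^ k)) = true := by decide +kernel

/-- The permuted relations. -/
noncomputable def permOK (k : ℕ) : Bool :=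
  let e := permuted.getD k ([], [])
  movesOK e.1 ((kindRel k).map piN') e.2 &&
    Nat.beq (e.2.foldr (fun i a => Nat.xor (vec i) a) 0) ([512, 1536, 1536].getD k 0)

theorem perm_ok : ((List.range 3).all permOK) = true := by decide +kernel

theorem kind_in : ((List.range 3).all fun k => (kindRel k).all fun p => Nat.blt p 3510 && inO p) = true := by
  decide +kernel

theorem base_lt {w : List ℕ} (hw : w ∈ base) : (w.all fun x => Nat.blt x 8) = true := by
  have h := List.all_eq_true.1 Mult6.base_ok w hw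
  rw [Bool.and_eq_true] at h
  exact h.1

/-- The relator reduces to the given residue. -/
def Red (w r : List ℕ) : Prop := ∃ ms, run paths ms (w.map fun x => Mult6.gl.getD x 0) = r

theorem base_red {w : List ℕ} (hw : w ∈ base) :
    Red w [] ∨ Red w resA ∨ Red w resH ∨ Red w resB ∨ Red w resE := by
  obtain ⟨i, hi, rfl⟩ := List.getElem_of_mem hw
  have hi' : i < moves.length := Mult6.moves_len ▸ hi
  have hmem : (base[i], moves[i]) ∈ base.zip moves :=
    List.mem_iff_getElem.2 ⟨i, by rw [List.length_zip]; exact lt_min hi hi', List.getElem_zip⟩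
  have h5 := List.all_eq_true.1 Mult6.moves_ok _ hmem
  simp only [Bool.or_eq_true, beq_iff_eq] at h5
  rcases h5 with (((h | h) | h) | h) | h
  · exact Or.inl ⟨_, h⟩
  · exact Or.inr (Or.inl ⟨_, h⟩)
  · exact Or.inr (Or.inr (Or.inl ⟨_, h⟩))
  · exact Or.inr (Or.inr (Or.inr (Or.inl ⟨_, h⟩)))
  · exact Or.inr (Or.inr (Or.inr (Or.inr ⟨_, h⟩)))

/-- The lift of a generator. -/
noncomputable def gT {E : Type} [Group E] (T : Fin 3510 → E) (x : ℕ) : E :=
  if x < 8 then ext T (Mult6.gl.getD x 0) else 1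

namespace Cov

variable {E : Type} [Group E] (K : Cov E)

theorem ker_le : K.σ.ker ≤ Subgroup.center E := fun x hx => Subgroup.mem_center_iff.2 fun g => by
  rcases K.ker_cases x hx with rfl | rfl
  · rw [mul_one, one_mul]
  · exact (K.central g).eq.symm

theorem central_of_ker {x : E} (hx : K.σ x = 1) (y : E) : Commute x y :=
  (Subgroup.mem_center_iff.1 (K.ker_le hx) y).symm

theorem sq_of_ker {x : E} (hx : K.σ x = 1) : x * x = 1 := by
  rcases K.ker_cases x hx with rfl | rfl
  · exact one_mul 1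
  · exact K.d_sq

/-- The value of the second relation. -/
def bV : E := val K.T comB

/-- The value of the third relation. -/
def kV : E := val K.T comK

theorem res_ker (p : ℕ × List ℕ) (hp : p ∈ [(28, resA), (30, resH), (31, resB), (32, resE)]) :
    K.σ (val K.T p.2) = 1 := Mult6.res_mem_ker K.mapT p hp

theorem res_vals : val K.T resA = 1 ∧ val K.T resH = 1 ∧ val K.T resB = K.bV ∧ val K.T resE = K.kV ∧
    K.σ K.bV = 1 ∧ K.σ K.kV = 1 := by
  have hA := K.res_ker (28, resA) (by simp)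
  have hH := K.res_ker (30, resH) (by simp)
  have hB := K.res_ker (31, resB) (by simp)
  have hE := K.res_ker (32, resE) (by simp)
  have hco := Mult6.com_ok
  simp only [Bool.and_eq_true, beq_iff_eq] at hco
  obtain ⟨⟨⟨eA, eB⟩, eH⟩, eK⟩ := hco
  have eA' : val K.T resA = 1 := by
    rw [← Mult6.val_run K.isLift Mult6.paths_ok moveA resA (K.ker_le hA), eA, K.val_A]
  have eB' : val K.T resB = K.bV := by
    rw [← Mult6.val_run K.isLift Mult6.paths_ok moveB resB (K.ker_le hB), eB]
    rfl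
  have eH' : val K.T resH = 1 := by
    have h2 := K.sq_of_ker hH
    have h3 : val K.T (resH ++ resH ++ resH) = val K.T resH := by rw [val_append, val_append, h2, one_mul]
    rw [← h3, ← Mult6.val_run K.isLift Mult6.paths_ok moveH3 _ (by rw [h3]; exact K.ker_le hH), eH, val_nil]
  have h1 : val K.T (resE ++ (resH ++ resH)) = val K.T resE := by
    rw [val_append, val_append, eH', mul_one, mul_one]
  have eE : val K.T resE = K.kV := by
    rw [← h1, ← Mult6.val_run K.isLift Mult6.paths_ok moveEHH _ (by rw [h1]; exact K.ker_le hE), eK]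
    rfl
  exact ⟨eA', eH', eB', eE, eB' ▸ hB, eE ▸ hE⟩

theorem gT_sq (x : ℕ) : gT K.T x * gT K.T x = 1 := by
  unfold gT
  split_ifs with hx
  · obtain ⟨h1, h2, -⟩ := Mult6.gl_spec hx
    exact Mult6.ext_sq K.isLift h1 h2
  · exact one_mul 1

theorem map_gT {x : ℕ} (hx : x < 8) : K.σ (gT K.T x) = θ (hgH (x + 1)) := by
  obtain ⟨h1, h2, h3⟩ := Mult6.gl_spec hx
  rw [gT, if_pos hx, ext, dif_pos h1, K.mapT _ h2, trQ, h3]

theorem wprod_gT {w : List ℕ} (hl : (w.all fun x => Nat.blt x 8) = true) :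
    wprod (gT K.T) w = val K.T (w.map fun x => Mult6.gl.getD x 0) :=
  (Mult6.val_gl (gT K.T) (fun x hx => by rw [gT, if_pos hx]) w hl).symm

theorem val_red {w r : List ℕ} (hw : w ∈ base) (h : Red w r) :
    wprod (gT K.T) w = val K.T r := by
  obtain ⟨ms, hms⟩ := h
  have hin : ∀ n ∈ w.map (fun x => Mult6.gl.getD x 0), n < 3510 ∧ inO n = true := by
    intro n hn
    obtain ⟨x, hx, rfl⟩ := List.mem_map.1 hn
    obtain ⟨h1, h2, -⟩ := Mult6.gl_spec (Nat.blt_eq.mp (List.all_eq_true.1 (base_lt hw) x hx))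
    exact ⟨h1, h2⟩
  have hcen : val K.T (w.map fun x => Mult6.gl.getD x 0) ∈ Subgroup.center E :=
    K.ker_le (by rw [MonoidHom.mem_ker, Mult6.map_val K.mapT _ hin]; exact Mult6.base_val hw)
  rw [K.wprod_gT (base_lt hw), ← Mult6.val_run K.isLift Mult6.paths_ok ms _ hcen, hms]

theorem map_closure_gT : Subgroup.map K.σ (Subgroup.closure (gT K.T '' {x | x < 8})) = ⊤ := by
  refine eq_top_iff.2 fun y _ => ?_
  obtain ⟨g, rfl⟩ := U62.surjective y
  set S := Subgroup.map K.σ (Subgroup.closure (gT K.T '' {x | x < 8}))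
  suffices key : ∀ a (ha : a ∈ Fi22.H), θ ⟨a, ha⟩ ∈ S from key g g.2
  intro a ha
  refine (U62.induct (motive := fun a => a ∈ Fi22.H ∧ ∀ ha : a ∈ Fi22.H, θ ⟨a, ha⟩ ∈ S)
    (fun j hj => ⟨U62.hg_mem j hj, fun ha' => ?_⟩)
    ⟨one_mem _, fun _ => by rw [show (⟨1, _⟩ : Fi22.H) = 1 from rfl, map_one]; exact one_mem _⟩
    (fun a b ha hb => ⟨mul_mem ha.1 hb.1, fun h' => ?_⟩) ha).2 ha
  · rw [show (⟨U62.hg j, ha'⟩ : Fi22.H) = hgH j from Subtype.ext (U62.coe_hgH hj).symm]
    rcases Nat.eq_zero_or_pos j with rfl | hj1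
    · rw [U62.θ_hgH_zero]; exact one_mem _
    obtain ⟨x, rfl⟩ : ∃ x, j = x + 1 := ⟨j - 1, by omega⟩
    rw [← K.map_gT (show x < 8 by omega)]
    exact Subgroup.mem_map_of_mem _ (Subgroup.subset_closure ⟨x, show x < 8 by omega, rfl⟩)
  · rw [show (⟨a * b, h'⟩ : Fi22.H) = ⟨a, ha.1⟩ * ⟨b, hb.1⟩ from rfl, map_mul]
    exact mul_mem (ha.2 ha.1) (hb.2 hb.1)

theorem closure_gT (hp : commutator E = ⊤) : Subgroup.closure (gT K.T '' {x | x < 8}) = ⊤ := by
  set S := Subgroup.closure (gT K.T '' {x | x < 8}) with hS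
  have hz : ∀ x : E, ∃ s ∈ S, ∃ c ∈ Subgroup.center E, x = s * c := fun x => by
    obtain ⟨s, hs, e⟩ : K.σ x ∈ Subgroup.map K.σ S := by rw [hS, K.map_closure_gT]; trivial
    exact ⟨s, hs, s⁻¹ * x, K.ker_le (by rw [MonoidHom.mem_ker, map_mul, map_inv, e, inv_mul_cancel]),
      (mul_inv_cancel_left _ _).symm⟩
  rw [eq_top_iff, ← hp, commutator_def, Subgroup.commutator_le]
  intro a _ b _
  obtain ⟨s, hsS, c, hc, rfl⟩ := hz a
  obtain ⟨t, htS, d, hd, rfl⟩ := hz b
  have hc' := Subgroup.mem_center_iff.1 hc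
  have hd' := Subgroup.mem_center_iff.1 hd
  rw [commutatorElement_def]
  have e : s * c * (t * d) * (s * c)⁻¹ * (t * d)⁻¹ = s * t * s⁻¹ * t⁻¹ := by
    calc s * c * (t * d) * (s * c)⁻¹ * (t * d)⁻¹
        = s * (c * (t * d * c⁻¹)) * s⁻¹ * (d⁻¹ * t⁻¹) := by group
      _ = s * t * (d * s⁻¹) * d⁻¹ * t⁻¹ := by rw [← hc' (t * d * c⁻¹)]; group
      _ = s * t * (s⁻¹ * d) * d⁻¹ * t⁻¹ := by rw [hd' s⁻¹]
      _ = s * t * s⁻¹ * t⁻¹ := by group
  rw [e]
  exact mul_mem (mul_mem (mul_mem hsS htS) (inv_mem hsS)) (inv_mem htS)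

include K in
theorem card_eq : Nat.card E = 2 * 9196830720 := by
  have hker : Nat.card K.σ.ker = 2 := by
    rw [Nat.card_eq_two_iff]
    refine ⟨1, ⟨K.d, K.map_d⟩, fun h => K.d_ne (congrArg Subtype.val h).symm, Set.eq_univ_of_forall fun k => ?_⟩
    rcases K.ker_cases k k.2 with h | h
    · exact Or.inl (Subtype.ext h)
    · exact Or.inr (Subtype.ext h)
  rw [← Subgroup.card_mul_index K.σ.ker, hker, Subgroup.index_ker,
    MonoidHom.range_eq_top.2 K.surj, Subgroup.card_top, U62.card_psu]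

theorem not_both (hp : commutator E = ⊤) (hb : K.bV = 1) (hk : K.kV = 1) : False := by
  obtain ⟨eA, eH, eB, eE, -, -⟩ := K.res_vals
  obtain ⟨hfin, hcard⟩ := Mult6.cardLe_gens (f := gT K.T) K.gT_sq fun w hw => by
    rcases base_red hw with h | h | h | h | h <;> rw [K.val_red hw h]
    · exact val_nil (T := K.T)
    · exact eA
    · exact eH
    · exact eB.trans hb
    · exact eE.trans hk
  rw [K.closure_gT hp, Subgroup.card_top, K.card_eq] at hcard
  norm_num at hcard

theorem conj (hp : commutator E = ⊤) (e : E) : ∀ g : Fi22.H, θ g = K.σ e → ∀ p : Fin 3510,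
    inO (p : ℕ) = true → K.T (hm (g : G₀) p) = e * K.T p * e⁻¹ := by
  have he : e ∈ Subgroup.closure (gT K.T '' {x | x < 8}) := by rw [K.closure_gT hp]; trivial
  induction he using Subgroup.closure_induction'' with
  | mem x hx =>
    obtain ⟨y, hy, rfl⟩ := hx
    intro g hg p hp'
    obtain ⟨h1, h2, h3⟩ := Mult6.gl_spec (show y < 8 from hy)
    have hx' : gT K.T y = K.T ⟨_, h1⟩ := by rw [gT, if_pos (show y < 8 from hy), ext, dif_pos h1]
    rw [hx'] at hg ⊢
    rw [K.mapT _ h2] at hg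
    rw [act_congr (g' := trH ⟨_, h1⟩) hg hp', Mult6.coe_trH h2]
    exact K.isLift.conj _ _ h2 hp'
  | inv_mem x hx =>
    obtain ⟨y, hy, rfl⟩ := hx
    intro g hg p hp'
    obtain ⟨h1, h2, h3⟩ := Mult6.gl_spec (show y < 8 from hy)
    have hx' : gT K.T y = K.T ⟨_, h1⟩ := by rw [gT, if_pos (show y < 8 from hy), ext, dif_pos h1]
    have hi : (gT K.T y)⁻¹ = K.T ⟨_, h1⟩ := by
      rw [inv_eq_of_mul_eq_one_right (K.gT_sq y), hx']
    rw [hi] at hg ⊢
    rw [K.mapT _ h2] at hg
    rw [act_congr (g' := trH ⟨_, h1⟩) hg hp', Mult6.coe_trH h2]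
    exact K.isLift.conj _ _ h2 hp'
  | one =>
    intro g hg p hp'
    rw [map_one, ← map_one θ] at hg
    rw [act_congr hg hp', one_mul, inv_one, mul_one, Subgroup.coe_one, map_one, Equiv.Perm.one_apply]
  | mul x y _ _ hx hy =>
    intro g hg p hp'
    obtain ⟨a, ha⟩ := U62.surjective (K.σ x)
    obtain ⟨b, hb⟩ := U62.surjective (K.σ y)
    rw [map_mul, ← ha, ← hb, ← map_mul] at hg
    rw [act_congr hg hp', Subgroup.coe_mul, Out22.hom_mul_apply, hx a ha _ (U62.inO_hm b.2 hp'),
      hy b hb _ hp']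
    group

theorem T_comm {i j : ℕ} (hi : i < 22) (hi0 : i ≠ 0) (hj : j < 22) (hj0 : j ≠ 0) :
    Commute (K.T (qp i)) (K.T (qp j)) := by
  have h := K.isLift.conj (qp i) (qp j) (qp_inO hi hi0) (qp_inO hj hj0)
  rw [qp_fix hi hj] at h
  exact mul_inv_eq_iff_eq_mul.1 h.symm

/-- The basis. -/
def es : List E := b9.map (fun i => K.T (qp i)) ++ [K.bV, K.kV]

theorem b9_lt : ∀ i ∈ b9, i < 22 ∧ i ≠ 0 := by decide

theorem es_props : (∀ e ∈ K.es, e * e = 1) ∧ ∀ e ∈ K.es, ∀ e' ∈ K.es, Commute e e' := by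
  obtain ⟨-, -, -, -, hb, hk⟩ := K.res_vals
  have hc : ∀ e ∈ K.es, (∃ i, (i < 22 ∧ i ≠ 0) ∧ e = K.T (qp i)) ∨ K.σ e = 1 := by
    intro e he
    rcases List.mem_append.1 he with h | h
    · obtain ⟨i, hi, rfl⟩ := List.mem_map.1 h
      exact Or.inl ⟨i, b9_lt i hi, rfl⟩
    · right
      rcases List.mem_cons.1 h with rfl | h
      · exact hb
      · rw [List.mem_singleton.1 h]; exact hk
  refine ⟨fun e he => ?_, fun e he e' he' => ?_⟩
  · rcases hc e he with ⟨i, hi, rfl⟩ | h
    · exact K.isLift.sq _ (qp_inO hi.1 hi.2)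
    · exact K.sq_of_ker h
  · rcases hc e he with ⟨i, hi, rfl⟩ | h
    · rcases hc e' he' with ⟨j, hj, rfl⟩ | h'
      · exact K.T_comm hi.1 hi.2 hj.1 hj.2
      · exact (K.central_of_ker h' _).symm
    · exact K.central_of_ker h _

/-- The element with given coordinates. -/
def va (a : ℕ) : E := TwoCert.val K.es a

theorem va_xor (a b : ℕ) : K.va (a ^^^ b) = K.va a * K.va b := TwoCert.val_xor K.es_props.1 K.es_props.2 a b

theorem va_zero : K.va 0 = 1 := TwoCert.val_zero _

theorem va_sq (a : ℕ) : K.va a * K.va a = 1 := by rw [← va_xor, Nat.xor_self, va_zero]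

theorem va_kind {k : ℕ} (hk : k < 3) : K.va (kindVec k) = val K.T (kindRel k) ∧ K.σ (val K.T (kindRel k)) = 1 := by
  obtain ⟨-, -, -, -, hb, hk'⟩ := K.res_vals
  have hl : K.es.length = 11 := by simp [es, b9]
  interval_cases k
  · exact ⟨(K.va_zero).trans K.val_A.symm, (congrArg K.σ K.val_A).trans (map_one _)⟩
  · refine ⟨?_, hb⟩
    show TwoCert.val K.es (2 ^ 9) = _
    rw [TwoCert.val_pow _ 9 (by rw [hl]; norm_num)]
    rfl
  · refine ⟨?_, hk'⟩
    show TwoCert.val K.es (2 ^ 10) = _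
    rw [TwoCert.val_pow _ 10 (by rw [hl]; norm_num)]
    rfl

theorem T_basis {i : ℕ} (hi : i ∈ b9) : K.va (vec i) = K.T (qp i) := by
  obtain ⟨k, hk, e⟩ : ∃ k, k < 9 ∧ b9.getD k 0 = i := by
    have key : ∀ i ∈ b9, (List.range 9).any (fun k => Nat.beq (b9.getD k 0) i) = true := by decide
    simpa [List.any_eq_true] using key i hi
  have h := List.all_eq_true.1 b9_ok k (List.mem_range.2 hk)
  rw [Nat.beq_eq] at h
  rw [← e, h]
  show TwoCert.val K.es (2 ^ k) = _
  rw [TwoCert.val_pow _ k (by simp [es, b9]; omega)]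
  interval_cases k <;> rfl

theorem moved (hp : commutator E = ⊤) {w r idx : List ℕ} (h : movesOK w r idx = true) :
    ∃ e : E, e * val K.T r * e⁻¹ = (idx.map fun i => K.T (qp i)).prod := by
  simp only [movesOK, Bool.and_eq_true, Nat.beq_eq, List.all_eq_true, Nat.blt_eq, beq_iff_eq,
    Bool.not_eq_true'] at h
  obtain ⟨⟨⟨⟨hw, h0⟩, hr⟩, hidx⟩, himg⟩ := h
  have hmem : Fi22Local.el w ∈ Fi22.H := (Out22.mem_H_iff _).2 (Fin.ext (by
    rw [← Fi22Local.apt_of_lt _ (show ((0 : Fin 3510) : ℕ) < 3510 from Fin.isLt _)]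
    exact (Fi22Local.apt_el hw (by norm_num)).trans h0))
  obtain ⟨e, he⟩ := K.surj (θ ⟨_, hmem⟩)
  refine ⟨e, ?_⟩
  have hcj : e * val K.T r * e⁻¹ = (r.map fun p => e * ext K.T p * e⁻¹).prod := by
    clear himg hr
    induction r with
    | nil => simp [val]
    | cons p r ih => rw [List.map_cons, List.prod_cons, ← ih, val_cons]; group
  have hmap : (r.map fun p => e * ext K.T p * e⁻¹) =
      (r.map (Fi22Local.act w)).map fun q => K.T ⟨q % 3510, Nat.mod_lt _ (by norm_num)⟩ := by
    rw [List.map_map]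
    refine List.map_congr_left fun p hpr => ?_
    obtain ⟨hlt, hO⟩ := hr p hpr
    show e * ext K.T p * e⁻¹ = _
    rw [ext, dif_pos hlt, ← K.conj hp e ⟨_, hmem⟩ he.symm ⟨p, hlt⟩ hO]
    refine congrArg K.T (Fin.ext ?_)
    have hv : (hm (Fi22Local.el w) ⟨p, hlt⟩ : ℕ) = Fi22Local.act w p := by
      rw [← Fi22Local.apt_of_lt _ hlt]; exact Fi22Local.apt_el hw hlt
    show (hm (Fi22Local.el w) ⟨p, hlt⟩ : ℕ) = Fi22Local.act w p % 3510
    rw [hv, Nat.mod_eq_of_lt (hv ▸ Fin.isLt _)]
  rw [hcj, hmap, himg, List.map_map]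
  rfl

theorem prod_idx {known : List ℕ} (hk : ∀ i ∈ known, K.va (vec i) = K.T (qp i)) :
    ∀ t : List ℕ, (∀ i ∈ t, i ∈ known) →
      (t.map fun i => K.T (qp i)).prod = K.va (t.foldr (fun i a => Nat.xor (vec i) a) 0)
  | [], _ => K.va_zero.symm
  | i :: t, h => by
    rw [List.map_cons, List.prod_cons, prod_idx hk t fun j hj => h j (List.mem_cons_of_mem _ hj),
      ← hk i (h i List.mem_cons_self), List.foldr_cons]
    exact (K.va_xor _ _).symm

theorem chain_sound (hp : commutator E = ⊤) : ∀ (ss : List (ℕ × List ℕ × ℕ × List ℕ)) (known : List ℕ),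
    chainOK known ss = true → (∀ i ∈ known, K.va (vec i) = K.T (qp i)) →
    ∀ i < 22, i ≠ 0 → K.va (vec i) = K.T (qp i) := by
  intro ss
  induction ss with
  | nil =>
    intro known h hk i hi h0
    simp only [chainOK, List.all_eq_true, List.mem_range, Bool.or_eq_true, List.any_eq_true, Nat.beq_eq] at h
    obtain ⟨j, hj, rfl⟩ := (h i hi).resolve_left h0
    exact hk _ hj
  | cons s ss ih =>
    intro known h hk
    rw [chainOK, Bool.and_eq_true] at h
    refine ih _ h.2 fun i hi => ?_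
    rcases List.mem_cons.1 hi with rfl | hi
    swap
    · exact hk i hi
    obtain ⟨k, w, r, l⟩ := s
    obtain ⟨h1, -⟩ := h
    cases l with
    | nil => simp [stepOK] at h1
    | cons u t =>
      simp only [stepOK, Bool.and_eq_true, Nat.blt_eq, List.all_eq_true, List.any_eq_true, Nat.beq_eq] at h1
      obtain ⟨⟨⟨hk3, hmv⟩, hkn⟩, hvec⟩ := h1
      obtain ⟨hval, hσ⟩ := K.va_kind hk3
      obtain ⟨e, he⟩ := K.moved hp hmv
      have hrot : val K.T ((kindRel k).drop r ++ (kindRel k).take r) = val K.T (kindRel k) := by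
        have hc := K.central_of_ker hσ (val K.T ((kindRel k).take r))⁻¹
        have e1 : val K.T ((kindRel k).take r) * val K.T ((kindRel k).drop r) = val K.T (kindRel k) := by
          rw [← val_append, List.take_append_drop]
        rw [← e1] at hc
        rw [val_append]
        calc val K.T ((kindRel k).drop r) * val K.T ((kindRel k).take r)
            = (val K.T ((kindRel k).take r))⁻¹ * (val K.T ((kindRel k).take r) * val K.T ((kindRel k).drop r)) *
                val K.T ((kindRel k).take r) := by group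
          _ = val K.T (kindRel k) := by rw [← hc.eq, inv_mul_cancel_right, e1]
      rw [hrot, ← (K.central_of_ker hσ e).eq, mul_inv_cancel_right, ← hval, List.map_cons, List.prod_cons,
        K.prod_idx hk t fun j hj => by obtain ⟨x, hx, rfl⟩ := hkn j hj; exact hx] at he
      show K.va (vec u) = K.T (qp u)
      rw [hvec]
      show K.va (kindVec k ^^^ _) = _
      rw [va_xor, he, mul_assoc, va_sq, mul_one]

theorem T_eq (hp : commutator E = ⊤) {i : ℕ} (hi : i < 22) (h0 : i ≠ 0) : K.T (qp i) = K.va (vec i) :=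
  (K.chain_sound hp steps9 b9 chain9_ok (fun _ h => K.T_basis h) i hi h0).symm

theorem val_perm (hp : commutator E = ⊤) {k : ℕ} (hk : k < 3) :
    val K.T ((kindRel k).map piN') = K.va ([512, 1536, 1536].getD k 0) := by
  have h := List.all_eq_true.1 perm_ok k (List.mem_range.2 hk)
  simp only [permOK, Bool.and_eq_true, Nat.beq_eq] at h
  obtain ⟨hmv, hv⟩ := h
  obtain ⟨e, he⟩ := K.moved hp hmv
  have hi : ∀ i ∈ (permuted.getD k ([], [])).2, i ∈ (List.range 22).filter (fun i => !(Nat.beq i 0)) := by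
    intro i hi
    simp only [movesOK, Bool.and_eq_true, List.all_eq_true, Nat.blt_eq] at hmv
    exact List.mem_filter.2 ⟨List.mem_range.2 (hmv.1.2 i hi).1, (hmv.1.2 i hi).2⟩
  rw [K.prod_idx (known := (List.range 22).filter fun i => !(Nat.beq i 0)) (fun i hi => by
    rw [List.mem_filter, List.mem_range, Bool.not_eq_true'] at hi
    exact (K.T_eq hp hi.1 (Nat.ne_of_beq_eq_false hi.2)).symm) _ hi, hv] at he
  have hσ : K.σ (K.va ([512, 1536, 1536].getD k 0)) = 1 := by
    obtain ⟨-, -, -, -, hb, hk'⟩ := K.res_vals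
    have h1 : K.va 512 = K.bV := (K.va_kind (k := 1) (by norm_num)).1
    have h2 : K.va 1024 = K.kV := (K.va_kind (k := 2) (by norm_num)).1
    interval_cases k
    · show K.σ (K.va 512) = 1; rw [h1, hb]
    · show K.σ (K.va (512 ^^^ 1024)) = 1; rw [va_xor, map_mul, h1, h2, hb, hk', mul_one]
    · show K.σ (K.va (512 ^^^ 1024)) = 1; rw [va_xor, map_mul, h1, h2, hb, hk', mul_one]
  calc val K.T ((kindRel k).map piN') = e⁻¹ * (e * val K.T ((kindRel k).map piN') * e⁻¹) * e := by group
    _ = K.va ([512, 1536, 1536].getD k 0) := by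
      rw [he, mul_assoc, (K.central_of_ker hσ e).eq, inv_mul_cancel_left]

/-- The lifts permuted by the similitude. -/
noncomputable def T' (p : Fin 3510) : E := K.T (piP p) * K.bV

theorem bV_central (x : E) : Commute K.bV x := K.central_of_ker K.res_vals.2.2.2.2.1 x

theorem bV_sq : K.bV * K.bV = 1 := K.sq_of_ker K.res_vals.2.2.2.2.1

theorem val_T' : ∀ l : List ℕ, (∀ p ∈ l, p < 3510 ∧ inO p = true) →
    val K.T' l = val K.T (l.map piN') * K.bV ^ l.length
  | [], _ => by simp [val]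
  | a :: l, h => by
    obtain ⟨ha, hO⟩ := h a List.mem_cons_self
    obtain ⟨-, hv, -⟩ := piP_spec (c := ⟨a, ha⟩) hO
    have hT : ext K.T' a = ext K.T (piN' a) * K.bV := by
      rw [ext, dif_pos ha, ext, dif_pos (hv ▸ Fin.isLt _)]
      exact congrArg (fun q => K.T q * K.bV) (Fin.ext hv)
    rw [List.map_cons, val_cons, val_cons, val_T' l (fun p hp => h p (List.mem_cons_of_mem _ hp)), hT,
      List.length_cons, pow_succ']
    calc ext K.T (piN' a) * K.bV * (val K.T (l.map piN') * K.bV ^ l.length)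
        = ext K.T (piN' a) * (K.bV * val K.T (l.map piN')) * K.bV ^ l.length := by group
      _ = ext K.T (piN' a) * val K.T (l.map piN') * (K.bV * K.bV ^ l.length) := by
        rw [(K.bV_central _).eq]; group

theorem kind_mem {k : ℕ} (hk : k < 3) : ∀ p ∈ kindRel k, p < 3510 ∧ inO p = true := by
  intro p hp
  have h := List.all_eq_true.1 (List.all_eq_true.1 kind_in k (List.mem_range.2 hk)) p hp
  rwa [Bool.and_eq_true, Nat.blt_eq] at h

theorem bk_va : K.va 512 = K.bV ∧ K.va 1536 = K.bV * K.kV := by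
  have h1 : K.va 512 = K.bV := (K.va_kind (k := 1) (by norm_num)).1
  have h2 : K.va 1024 = K.kV := (K.va_kind (k := 2) (by norm_num)).1
  refine ⟨h1, ?_⟩
  show K.va (512 ^^^ 1024) = _
  rw [va_xor, h1, h2]

theorem val_T'_rel (hp : commutator E = ⊤) :
    val K.T' comA = 1 ∧ val K.T' comB = K.kV ∧ val K.T' comK = K.bV * K.kV := by
  obtain ⟨e1, e2⟩ := K.bk_va
  have h2 : K.bV ^ 2 = 1 := by rw [sq, K.bV_sq]
  have h7 : K.bV ^ 7 = K.bV := by rw [pow_succ, show 6 = 2 * 3 from rfl, pow_mul, h2, one_pow, one_mul]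
  have h6 : K.bV ^ 6 = 1 := by rw [show 6 = 2 * 3 from rfl, pow_mul, h2, one_pow]
  have r0 := K.val_T' (kindRel 0) (kind_mem (by norm_num))
  have r1 := K.val_T' (kindRel 1) (kind_mem (by norm_num))
  have r2 := K.val_T' (kindRel 2) (kind_mem (by norm_num))
  rw [K.val_perm hp (by norm_num : 0 < 3)] at r0
  rw [K.val_perm hp (by norm_num : 1 < 3)] at r1
  rw [K.val_perm hp (by norm_num : 2 < 3)] at r2
  refine ⟨r0.trans ?_, r1.trans ?_, r2.trans ?_⟩
  · show K.va 512 * K.bV ^ 7 = 1
    rw [e1, h7, K.bV_sq]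
  · show K.va 1536 * K.bV ^ 7 = K.kV
    rw [e2, h7, (K.bV_central K.kV).eq, mul_assoc, K.bV_sq, mul_one]
  · show K.va 1536 * K.bV ^ 6 = K.bV * K.kV
    rw [e2, h6, mul_one]

theorem exists_twist (hp : commutator E = ⊤) :
    ∃ K' : Cov E, K'.d = K.d ∧ K'.bV = K.kV ∧ K'.kV = K.bV * K.kV := by
  obtain ⟨hA, hB, hK⟩ := K.val_T'_rel hp
  refine ⟨{ σ := α.symm.toMonoidHom.comp K.σ
            d := K.d
            T := K.T'
            surj := α.symm.surjective.comp K.surj
            d_sq := K.d_sq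
            d_ne := K.d_ne
            map_d := by rw [MonoidHom.comp_apply, K.map_d, map_one]
            central := K.central
            ker_cases := fun x hx => K.ker_cases x (α.symm.injective (hx.trans (map_one _).symm))
            isLift := ⟨fun p hp' => ?_, fun a b ha hb => ?_⟩
            mapT := fun p hp' => ?_
            val_A := hA }, rfl, hB, hK⟩
  · show K.T (piP p) * K.bV * (K.T (piP p) * K.bV) = 1
    calc K.T (piP p) * K.bV * (K.T (piP p) * K.bV) = K.T (piP p) * (K.bV * K.T (piP p)) * K.bV := by group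
      _ = (K.T (piP p) * K.T (piP p)) * (K.bV * K.bV) := by rw [(K.bV_central _).eq]; group
      _ = 1 := by rw [K.isLift.sq _ (piP_spec hp').1, K.bV_sq, one_mul]
  · show K.T (piP (hm (tr a) b)) * K.bV = K.T (piP a) * K.bV * (K.T (piP b) * K.bV) * (K.T (piP a) * K.bV)⁻¹
    rw [pi_equivariant ha hb, K.isLift.conj _ _ (piP_spec ha).1 (piP_spec hb).1, mul_inv_rev]
    calc K.T (piP a) * K.T (piP b) * (K.T (piP a))⁻¹ * K.bV
        = K.T (piP a) * (K.T (piP b) * K.bV) * (K.bV⁻¹ * (K.T (piP a))⁻¹ * K.bV) := by group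
      _ = K.T (piP a) * (K.T (piP b) * K.bV) * (K.T (piP a))⁻¹ := by
        rw [mul_assoc K.bV⁻¹, ← (K.bV_central (K.T (piP a))⁻¹).eq, inv_mul_cancel_left]
      _ = K.T (piP a) * K.bV * (K.T (piP b) * K.bV) * (K.bV⁻¹ * (K.T (piP a))⁻¹) := by
        rw [mul_assoc (K.T (piP a)) K.bV, (K.bV_central (K.T (piP b) * K.bV)).eq]; group
  · show α.symm (K.σ (K.T (piP p) * K.bV)) = trQ p
    rw [map_mul, K.res_vals.2.2.2.2.1, mul_one, K.mapT _ (piP_spec hp').1, ← α_trQ hp',
      MulEquiv.symm_apply_apply]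

theorem exists_normal (hp : commutator E = ⊤) : ∃ K' : Cov E, K'.d = K.d ∧ K'.bV = K.d ∧ K'.kV = K.d := by
  obtain ⟨-, -, -, -, hb, hk⟩ := K.res_vals
  rcases K.ker_cases _ hb with b1 | bd <;> rcases K.ker_cases _ hk with k1 | kd
  · exact (K.not_both hp b1 k1).elim
  · obtain ⟨K', e1, e2, e3⟩ := K.exists_twist hp
    exact ⟨K', e1, e2.trans kd, by rw [e3, b1, kd, one_mul]⟩
  · obtain ⟨K', e1, e2, e3⟩ := K.exists_twist hp
    obtain ⟨K'', f1, f2, f3⟩ := K'.exists_twist hp
    rw [bd, k1, mul_one] at e3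
    rw [k1] at e2
    exact ⟨K'', f1.trans e1, f2.trans e3, by rw [f3, e2, e3, one_mul]⟩
  · exact ⟨K, rfl, bd, kd⟩

end Cov

theorem exists_cov {E : Type} [Group E] (σ : E →* PU) (d : E) (hs : Function.Surjective σ) (hd2 : d * d = 1)
    (hd1 : d ≠ 1) (hσd : σ d = 1) (hc : ∀ x : E, Commute d x) (hker : ∀ x : E, σ x = 1 → x = 1 ∨ x = d)
    (hp : commutator E = ⊤) : ∃ K : Cov E, K.d = d ∧ K.bV = d ∧ K.kV = d := by
  have hcen : σ.ker ≤ Subgroup.center E := fun x hx => Subgroup.mem_center_iff.2 fun g => by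
    rcases hker x hx with rfl | rfl
    · rw [mul_one, one_mul]
    · exact (hc g).eq.symm
  obtain ⟨T, hT, hσ, hA⟩ := Mult6.exists_lift hcen hs
  let K : Cov E := ⟨σ, d, T, hs, hd2, hd1, hσd, hc, hker, hT, hσ, hA⟩
  exact K.exists_normal hp

/-! ### The stabiliser -/

/-- The word of a product of transpositions. -/
noncomputable def elW : List ℕ → List ℕ
  | [] => []
  | a :: l => elW l ++ Fi22Local.trW a

theorem rel_words : Fi22Local.sameW (elW comA) [] = true ∧ Fi22Local.sameW (elW comB) [0] = true ∧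
    Fi22Local.sameW (elW comK) [0] = true := by decide +kernel

theorem val_trH : ∀ l : List ℕ, (∀ p ∈ l, p < 3510 ∧ inO p = true) →
    ((val trH l : Fi22.H) : G₀) = Fi22Local.el (elW l)
  | [], _ => rfl
  | a :: l, h => by
    obtain ⟨ha, hO⟩ := h a List.mem_cons_self
    rw [val_cons, Subgroup.coe_mul, val_trH l fun p hp => h p (List.mem_cons_of_mem _ hp), ext, dif_pos ha,
      Mult6.coe_trH (c := ⟨a, ha⟩) hO, ← Fi22Local.trN_eq ha, elW, Fi22Local.el_append]
    rfl

theorem coe_z : (hgH 0 : G₀) = Fi22Local.el [0] := by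
  rw [U62.coe_hgH (by norm_num), U62.hg_zero]
  simp [Fi22Local.el, wprod]

theorem val_trH_rel : val trH comA = 1 ∧ val trH comB = hgH 0 ∧ val trH comK = hgH 0 := by
  refine ⟨Subtype.ext ?_, Subtype.ext ?_, Subtype.ext ?_⟩
  · rw [val_trH comA (Cov.kind_mem (k := 0) (by norm_num)), Fi22Local.el_eq rel_words.1]
    rfl
  · rw [val_trH comB (Cov.kind_mem (k := 1) (by norm_num)), Fi22Local.el_eq rel_words.2.1, coe_z]
  · rw [val_trH comK (Cov.kind_mem (k := 2) (by norm_num)), Fi22Local.el_eq rel_words.2.2, coe_z]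

/-- The stabiliser as a double cover. -/
noncomputable def hCov : Cov Fi22.H where
  σ := θ
  d := hgH 0
  T := trH
  surj := U62.surjective
  d_sq := U62.hgH_invol (by norm_num)
  d_ne h := U62.gen_zero_ne_one (by
    rw [← U62.hg_zero, ← U62.coe_hgH (show 0 < 9 by norm_num), h]; rfl)
  map_d := U62.θ_hgH_zero
  central := fun x => U62.hgH_central x
  ker_cases := fun _ h => U62.mem_ker h
  isLift := ⟨fun p hp => Mult6.trH_sq hp, fun a b ha hb => by
    rw [← Mult6.coe_trH ha, Mult6.trH_hm hb]⟩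
  mapT := fun _ _ => rfl
  val_A := val_trH_rel.1

theorem hCov_gens : Subgroup.closure (gT trH '' {x | x < 8}) = ⊤ := by
  set S := Subgroup.closure (gT trH '' {x | x < 8})
  have hj : ∀ x < 8, hgH (x + 1) ∈ S := fun x hx => by
    obtain ⟨h1, h2, h3⟩ := Mult6.gl_spec hx
    refine Subgroup.subset_closure ⟨x, hx, ?_⟩
    rw [gT, if_pos hx, ext, dif_pos h1, h3]
  have hz : hgH 0 ∈ S := by
    rw [U62.central_word]
    refine pow_mem (list_prod_mem fun a ha => ?_) 7
    obtain ⟨j, hjm, rfl⟩ := List.mem_map.1 ha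
    have key : ∀ j ∈ U62.evenWord, 1 ≤ j ∧ j < 9 := by decide
    obtain ⟨x, rfl⟩ : ∃ x, j = x + 1 := ⟨j - 1, by have := key j hjm; omega⟩
    exact hj x (by have := key _ hjm; omega)
  have hall : ∀ j < 9, hgH j ∈ S := fun j hj9 => by
    rcases Nat.eq_zero_or_pos j with rfl | hj1
    · exact hz
    obtain ⟨x, rfl⟩ : ∃ x, j = x + 1 := ⟨j - 1, by omega⟩
    exact hj x (by omega)
  refine eq_top_iff.2 fun g _ => ?_
  suffices key : ∀ a (ha : a ∈ Fi22.H), (⟨a, ha⟩ : Fi22.H) ∈ S from key g g.2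
  intro a ha
  refine (U62.induct (motive := fun a => a ∈ Fi22.H ∧ ∀ ha : a ∈ Fi22.H, (⟨a, ha⟩ : Fi22.H) ∈ S)
    (fun j hj => ⟨U62.hg_mem j hj, fun ha' => ?_⟩)
    ⟨one_mem _, fun _ => one_mem S⟩
    (fun a b ha hb => ⟨mul_mem ha.1 hb.1, fun h' => ?_⟩) ha).2 ha
  · rw [show (⟨U62.hg j, ha'⟩ : Fi22.H) = hgH j from Subtype.ext (U62.coe_hgH hj).symm]
    exact hall j hj
  · exact mul_mem (ha.2 ha.1) (hb.2 hb.1)

/-- A perfect double cover of PSU₆(2) is the stabiliser. -/
theorem exists_iso {E : Type} [Group E] [Finite E] (σ : E →* PU) (d : E) (hs : Function.Surjective σ)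
    (hd2 : d * d = 1) (hd1 : d ≠ 1) (hσd : σ d = 1) (hc : ∀ x : E, Commute d x)
    (hker : ∀ x : E, σ x = 1 → x = 1 ∨ x = d) (hp : commutator E = ⊤) :
    ∃ φ : E ≃* Fi22.H, φ d = hgH 0 := by
  obtain ⟨K, rfl, hb, hk⟩ := exists_cov σ d hs hd2 hd1 hσd hc hker hp
  have : Finite G₀ := Fi22.order_facts.1
  let u : E × Fi22.H := (K.d, hgH 0)
  have hu2 : u * u = 1 := Prod.ext K.d_sq (hCov.d_sq)
  have huc : ∀ x : E × Fi22.H, u * x = x * u := fun x => Prod.ext (K.central x.1).eq (U62.hgH_central x.2)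
  let N := Subgroup.zpowers u
  have : N.Normal := ⟨fun n hn g => by
    obtain ⟨i, rfl⟩ := Subgroup.mem_zpowers_iff.1 hn
    rw [← ((show Commute u g from huc g).zpow_left i).eq, mul_inv_cancel_right]
    exact Subgroup.mem_zpowers_iff.2 ⟨i, rfl⟩⟩
  let gg : ℕ → E × Fi22.H := fun x => (gT K.T x, gT trH x)
  have hgg : ∀ x, gg x * gg x = 1 := fun x => Prod.ext (K.gT_sq x) (hCov.gT_sq x)
  let q := QuotientGroup.mk' N
  have hbase : ∀ w ∈ ChainU62.base, wprod (fun x => q (gg x)) w = 1 := by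
    intro w hw
    have hsplit : wprod (fun x => q (gg x)) w = q (wprod (gT K.T) w, wprod (gT trH) w) := by
      induction w with
      | nil => exact (map_one q).symm
      | cons x w ih =>
        rw [wprod_cons, wprod_cons, wprod_cons]
        clear ih
        show q (gg x) * wprod (fun y => q (gg y)) w = _
        have : ∀ v : List ℕ, wprod (fun y => q (gg y)) v = q (wprod (gT K.T) v, wprod (gT trH) v) := by
          intro v
          induction v with
          | nil => exact (map_one q).symm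
          | cons y v ih => rw [wprod_cons, wprod_cons, wprod_cons, ih, ← map_mul]; rfl
        rw [this, ← map_mul]
        rfl
    rw [hsplit]
    have huN : q u = 1 := (QuotientGroup.eq_one_iff u).2 (Subgroup.mem_zpowers u)
    obtain ⟨a1, a2, a3, a4, -, -⟩ := K.res_vals
    obtain ⟨b1, b2, b3, b4, -, -⟩ := hCov.res_vals
    have hzb : hCov.bV = hgH 0 := val_trH_rel.2.1
    have hzk : hCov.kV = hgH 0 := val_trH_rel.2.2
    rcases base_red hw with h | h | h | h | h <;>
      rw [K.val_red hw h, show wprod (gT trH) w = _ from hCov.val_red hw h]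
    · exact map_one q
    · rw [a1, b1]; exact map_one q
    · rw [a2, b2]; exact map_one q
    · rw [a3, hb, b3, hzb]; exact huN
    · rw [a4, hk, b4, hzk]; exact huN
  obtain ⟨-, hcard⟩ := Mult6.cardLe_gens (f := fun x => q (gg x))
    (fun x => by rw [← map_mul, hgg, map_one]) hbase
  set Γ := Subgroup.closure (gg '' {x | x < 8}) with hΓ
  have hmap : Subgroup.map q Γ = Subgroup.closure ((fun x => q (gg x)) '' {x | x < 8}) := by
    rw [hΓ, MonoidHom.map_closure, Set.image_image]
  have hΓcard : Nat.card Γ ≤ 2 * 9196830720 := by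
    let r : Γ →* (E × Fi22.H) ⧸ N := q.comp Γ.subtype
    have hr : r.range = Subgroup.map q Γ := by rw [MonoidHom.range_comp, Subgroup.range_subtype]
    have hN : Nat.card N ≤ 2 := by
      rw [Nat.card_zpowers]
      exact Nat.le_of_dvd (by norm_num) (orderOf_dvd_of_pow_eq_one (by rw [sq, hu2]))
    have hk' : Nat.card r.ker ≤ 2 := by
      refine le_trans ?_ hN
      refine Nat.card_le_card_of_injective (fun x : r.ker =>
        (⟨((x : Γ) : E × Fi22.H), (QuotientGroup.eq_one_iff _).1 x.2⟩ : N)) fun x y h => ?_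
      exact Subtype.ext (Subtype.ext (congrArg (fun t : N => (t : E × Fi22.H)) h))
    rw [← Subgroup.card_mul_index r.ker, Subgroup.index_ker, hr, hmap]
    exact Nat.mul_le_mul hk' hcard
  let p1 : Γ →* E := (MonoidHom.fst E Fi22.H).comp Γ.subtype
  let p2 : Γ →* Fi22.H := (MonoidHom.snd E Fi22.H).comp Γ.subtype
  have s1 : Function.Surjective p1 := by
    rw [← MonoidHom.range_eq_top, eq_top_iff, ← K.closure_gT hp, Subgroup.closure_le]
    rintro _ ⟨x, hx, rfl⟩
    exact ⟨⟨gg x, Subgroup.subset_closure ⟨x, hx, rfl⟩⟩, rfl⟩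
  have s2 : Function.Surjective p2 := by
    rw [← MonoidHom.range_eq_top, eq_top_iff, ← hCov_gens, Subgroup.closure_le]
    rintro _ ⟨x, hx, rfl⟩
    exact ⟨⟨gg x, Subgroup.subset_closure ⟨x, hx, rfl⟩⟩, rfl⟩
  have i1 := s1.bijective_of_nat_card_le (hΓcard.trans K.card_eq.ge)
  have i2 := s2.bijective_of_nat_card_le (hΓcard.trans hCov.card_eq.ge)
  let φ : E ≃* Fi22.H := (MulEquiv.ofBijective p1 i1).symm.trans (MulEquiv.ofBijective p2 i2)
  refine ⟨φ, ?_⟩
  have hcen : φ K.d ∈ Subgroup.center Fi22.H := Subgroup.mem_center_iff.2 fun g => by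
    obtain ⟨x, rfl⟩ := φ.surjective g
    rw [← map_mul, ← map_mul, (K.central x).eq]
  rw [U62.center_H] at hcen
  exact (U62.mem_ker hcen).resolve_left fun h => K.d_ne (φ.injective (h.trans (map_one φ).symm))

end Cfsg.Agent.U62Cover
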