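import Cfsg.Agent.Lib.U62Cover.Data
import Cfsg.Agent.Lib.FischerPresented.Mult6
import Cfsg.Agent.Lib.Fi22Local.Basic

/-!
The automorphism of PSU₆(2) given by a diagonal similitude of order three and the permutation it induces on
the isotropic points and the transvections.
-/

set_option autoImplicit false
set_option maxRecDepth 100000

namespace Cfsg.Agent.U62Cover

open Cfsg.Agent.CosetCert
open Cfsg.Agent.CosetData
open Cfsg.Agent.RigidGraph.He (K4)
open Cfsg.Agent.FischerPresented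
open Cfsg.Agent.FischerPresented.Out22 (hm tr)
open Cfsg.Agent.FischerPresented.U62 (inO θ hgH pointOf of6 mv SU6 Rel frob p7 dig mulD smulN vecEq scEq)
open Cfsg.Agent.FischerPresented.Mult6 (PU trH trQ)

local notation "G₀" => Setup.G Fi22B.setup
local notation "wp" => wprod (Setup.gen Fi22B.setup)
local notation "M6" => Matrix (Fin 6) (Fin 6) K4

/-- The digits of the similitude. -/
def dd (e : ℕ) (i : ℕ) : ℕ := if i = 0 then e else 1

/-- A diagonal entry. -/
def dc (e : ℕ) (i : Fin 6) : K4 := K4.ofDigit (dd e i)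

theorem dc_mul : ∀ i : Fin 6, dc 2 i * dc 3 i = 1 ∧ dc 3 i * dc 2 i = 1 ∧ frob (dc 2 i) = dc 3 i ∧
    frob (dc 3 i) = dc 2 i := by decide

theorem dd_lt : ∀ e < 4, ∀ i, dd e i < 4 := fun e he i => by
  unfold dd; split_ifs <;> omega

theorem twist_mem {e e' : ℕ} (h : ∀ i, dc e i * dc e' i = 1 ∧ frob (dc e i) = dc e' i ∧ frob (dc e' i) = dc e i)
    {M : M6} (hM : M.transpose * M.map frob = 1) :
    (Matrix.diagonal (dc e) * M * Matrix.diagonal (dc e')).transpose *
      (Matrix.diagonal (dc e) * M * Matrix.diagonal (dc e')).map frob = 1 := by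
  have h1 : (Matrix.diagonal (dc e)).map frob = Matrix.diagonal (dc e') := by
    rw [Matrix.diagonal_map (map_zero frob)]
    exact congrArg Matrix.diagonal (funext fun i => (h i).2.1)
  have h2 : (Matrix.diagonal (dc e')).map frob = Matrix.diagonal (dc e) := by
    rw [Matrix.diagonal_map (map_zero frob)]
    exact congrArg Matrix.diagonal (funext fun i => (h i).2.2)
  have h3 : Matrix.diagonal (dc e) * Matrix.diagonal (dc e') = (1 : M6) := by
    rw [Matrix.diagonal_mul_diagonal, ← Matrix.diagonal_one]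
    exact congrArg Matrix.diagonal (funext fun i => (h i).1)
  have h4 : Matrix.diagonal (dc e') * Matrix.diagonal (dc e) = (1 : M6) := mul_eq_one_comm.1 h3
  rw [Matrix.transpose_mul, Matrix.transpose_mul, Matrix.diagonal_transpose, Matrix.diagonal_transpose,
    Matrix.map_mul, Matrix.map_mul, h1, h2]
  calc Matrix.diagonal (dc e') * (M.transpose * Matrix.diagonal (dc e)) *
        (Matrix.diagonal (dc e') * M.map frob * Matrix.diagonal (dc e))
      = Matrix.diagonal (dc e') * M.transpose * (Matrix.diagonal (dc e) * Matrix.diagonal (dc e')) *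
          M.map frob * Matrix.diagonal (dc e) := by simp only [mul_assoc]
    _ = 1 := by rw [h3, mul_one, mul_assoc (Matrix.diagonal (dc e')), hM, mul_one, h4]

theorem twist_det {e e' : ℕ} (h : ∀ i, dc e i * dc e' i = 1) (M : M6) :
    (Matrix.diagonal (dc e) * M * Matrix.diagonal (dc e')).det = M.det := by
  rw [Matrix.det_mul, Matrix.det_mul, mul_right_comm, ← Matrix.det_mul, Matrix.diagonal_mul_diagonal,
    show (fun i => dc e i * dc e' i) = fun _ => (1 : K4) from funext h, Matrix.diagonal_one, Matrix.det_one,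
    one_mul]

/-- Conjugation by the similitude. -/
noncomputable def twist (e e' : ℕ)
    (h : ∀ i, dc e i * dc e' i = 1 ∧ frob (dc e i) = dc e' i ∧ frob (dc e' i) = dc e i) (A : SU6) : SU6 :=
  ⟨⟨Matrix.diagonal (dc e) * A.1.1 * Matrix.diagonal (dc e'), by
      rw [twist_det (fun i => (h i).1)]; exact A.1.2⟩,
    (Cfsg.Agent.HermSU.mem_SU_iff U62.frob_eq_pow _).2
      (twist_mem h ((Cfsg.Agent.HermSU.mem_SU_iff U62.frob_eq_pow _).1 A.2))⟩

theorem h23 (i : Fin 6) : dc 2 i * dc 3 i = 1 ∧ frob (dc 2 i) = dc 3 i ∧ frob (dc 3 i) = dc 2 i :=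
  ⟨(dc_mul i).1, (dc_mul i).2.2.1, (dc_mul i).2.2.2⟩

theorem h32 (i : Fin 6) : dc 3 i * dc 2 i = 1 ∧ frob (dc 3 i) = dc 2 i ∧ frob (dc 2 i) = dc 3 i :=
  ⟨(dc_mul i).2.1, (dc_mul i).2.2.2, (dc_mul i).2.2.1⟩

theorem diag_32 : Matrix.diagonal (dc 3) * Matrix.diagonal (dc 2) = (1 : M6) := by
  rw [Matrix.diagonal_mul_diagonal, ← Matrix.diagonal_one]
  exact congrArg Matrix.diagonal (funext fun i => (dc_mul i).2.1)

theorem diag_23 : Matrix.diagonal (dc 2) * Matrix.diagonal (dc 3) = (1 : M6) := mul_eq_one_comm.1 diag_32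

/-- The automorphism of SU₆(2). -/
noncomputable def αS : SU6 ≃* SU6 where
  toFun := twist 2 3 h23
  invFun := twist 3 2 h32
  left_inv A := Subtype.ext (Subtype.ext (by
    show Matrix.diagonal (dc 3) * (Matrix.diagonal (dc 2) * A.1.1 * Matrix.diagonal (dc 3)) * Matrix.diagonal (dc 2) = A.1.1
    simp only [← mul_assoc, diag_32, one_mul]
    rw [mul_assoc, diag_32, mul_one]))
  right_inv A := Subtype.ext (Subtype.ext (by
    show Matrix.diagonal (dc 2) * (Matrix.diagonal (dc 3) * A.1.1 * Matrix.diagonal (dc 2)) * Matrix.diagonal (dc 3) = A.1.1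
    simp only [← mul_assoc, diag_23, one_mul]
    rw [mul_assoc, diag_23, mul_one]))
  map_mul' A B := Subtype.ext (Subtype.ext (by
    show Matrix.diagonal (dc 2) * (A.1.1 * B.1.1) * Matrix.diagonal (dc 3) =
      Matrix.diagonal (dc 2) * A.1.1 * Matrix.diagonal (dc 3) * (Matrix.diagonal (dc 2) * B.1.1 * Matrix.diagonal (dc 3))
    simp only [mul_assoc]
    rw [← mul_assoc (Matrix.diagonal (dc 3)) (Matrix.diagonal (dc 2)), diag_32, one_mul]))

/-- The automorphism of PSU₆(2). -/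
noncomputable def α : PU ≃* PU :=
  QuotientGroup.congr (Subgroup.center SU6) (Subgroup.center SU6) αS (by
    ext x
    rw [Subgroup.map_equiv_eq_comap_symm, Subgroup.mem_comap, Subgroup.mem_center_iff, Subgroup.mem_center_iff]
    constructor
    · intro h g
      have := congrArg αS (h (αS.symm g))
      simpa using this
    · intro h g
      have := congrArg αS.symm (h (αS g))
      simpa using this)

theorem α_mk (A : SU6) : α (QuotientGroup.mk' (Subgroup.center SU6) A) = QuotientGroup.mk' (Subgroup.center SU6) (αS A) :=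
  rfl

/-- The similitude on a coded vector. -/
def dN (e : ℕ) (x : List ℕ) : List ℕ := (List.range 6).map fun i => mulD (dd e i) (dig x i)

theorem of6_dN (e : ℕ) (he : e < 4) (x : List ℕ) : of6 (dN e x) = fun i => dc e i * of6 x i := by
  funext i
  obtain ⟨h1, h2⟩ := U62.ofDigit_mulD _ (dd_lt e he i) _ (U62.dig_lt x i)
  show K4.ofDigit (dig (dN e x) i) = K4.ofDigit (dd e i) * K4.ofDigit (dig x i)
  rw [← h2, dig, dN, List.getD_eq_getElem?_getD, List.getElem?_map, List.getElem?_range i.2]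
  simp only [Option.map_some, Option.getD_some]
  rw [Nat.mod_eq_of_lt h1]

theorem mv_αS (A : SU6) (u : Fin 6 → K4) :
    mv (αS A) u = fun i => dc 2 i * mv A (fun j => dc 3 j * u j) i := by
  funext i
  show ((Matrix.diagonal (dc 2) * A.1.1 * Matrix.diagonal (dc 3)).mulVec u) i = _
  rw [← Matrix.mulVec_mulVec, ← Matrix.mulVec_mulVec, Matrix.mulVec_diagonal]
  congr 2
  exact funext fun j => Matrix.mulVec_diagonal (dc 3) u j

/-- The permutation of the points. -/
noncomputable def piN' (c : ℕ) : ℕ := Nat.land (Nat.shiftRight piN (16 * c)) 65535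

/-- The code of a vector. -/
def vcode (v : List ℕ) : ℕ := (List.range 6).foldr (fun i a => 4 * a + dig v i) 0

/-- The point of a vector. -/
noncomputable def ptInv (v : List ℕ) : ℕ := Nat.land (Nat.shiftRight invN (16 * vcode v)) 65535

theorem pts_ok : allBelow (fun c => !(inO c) ||
    (Nat.blt (piN' c) 3510 && inO (piN' c) && scEq (dN 2 (pointOf c)) (pointOf (piN' c)) &&
      [1, 2, 3].all fun s => Nat.beq (ptInv (smulN s (pointOf c))) c)) 3510 = true := by decide +kernel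

theorem vcode_congr {a b : List ℕ} (h : vecEq a b = true) : vcode a = vcode b := by
  have hd : ∀ i < 6, dig a i = dig b i := fun i hi => by
    have := List.all_eq_true.1 h i (List.mem_range.2 hi)
    rwa [Nat.beq_eq] at this
  simp [vcode, List.range_succ, hd 0, hd 1, hd 2, hd 3, hd 4, hd 5]

theorem point_inj {a b : ℕ} (ha : a < 3510) (hb : b < 3510) (iA : inO a = true) (iB : inO b = true) {s : K4}
    (hs : s ≠ 0) (h : of6 (pointOf a) = s • of6 (pointOf b)) : a = b := by
  have hsc := U62.scEq_of_smul hs h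
  rw [scEq, List.any_eq_true] at hsc
  obtain ⟨t, ht, he⟩ := hsc
  have h1 : vecEq (smulN 1 (pointOf a)) (smulN t (pointOf b)) = true := by
    rw [U62.vecEq_iff] at he ⊢
    rw [U62.of6_smulN (by norm_num), show K4.ofDigit 1 = (1 : K4) from rfl, one_smul, he]
  have ea := allBelow_spec pts_ok ha
  have eb := allBelow_spec pts_ok hb
  rw [iA] at ea
  rw [iB] at eb
  simp only [Bool.not_true, Bool.false_or, Bool.and_eq_true, List.all_eq_true, Nat.beq_eq] at ea eb
  rw [← ea.2 1 (by simp), ← eb.2 t ht, ptInv, ptInv, vcode_congr h1]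

/-- The permutation on all cosets. -/
noncomputable def piP (c : Fin 3510) : Fin 3510 :=
  if h : piN' c < 3510 then ⟨piN' c, h⟩ else c

theorem piP_spec {c : Fin 3510} (hc : inO (c : ℕ) = true) :
    inO (piP c : ℕ) = true ∧ (piP c : ℕ) = piN' c ∧
      ∃ s : K4, s ≠ 0 ∧ (fun i => dc 2 i * of6 (pointOf c) i) = s • of6 (pointOf (piP c : ℕ)) := by
  have h := allBelow_spec pts_ok c.2
  rw [hc] at h
  simp only [Bool.not_true, Bool.false_or, Bool.and_eq_true, Nat.blt_eq] at h
  obtain ⟨⟨⟨h1, h2⟩, h3⟩, -⟩ := h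
  have e : (piP c : ℕ) = piN' c := by rw [piP, dif_pos h1]
  rw [e, ← of6_dN 2 (by norm_num)]
  exact ⟨h2, rfl, U62.scEq_spec h3⟩

theorem scalar_ne {A : SU6} {s : K4}
    (h : ((A : Matrix.SpecialLinearGroup (Fin 6) K4) : M6) = s • 1) : s ≠ 0 := by
  rintro rfl
  have hd := A.1.2
  rw [h, zero_smul, Matrix.det_zero] at hd
  exact zero_ne_one hd

theorem exists_scalar {A B : SU6}
    (h : QuotientGroup.mk' (Subgroup.center SU6) A = QuotientGroup.mk' (Subgroup.center SU6) B) :
    ∃ s : K4, s ≠ 0 ∧ ∀ u, mv B u = s • mv A u := by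
  obtain ⟨s, hs⟩ := U62.scalar_of_mem_center (QuotientGroup.eq.1 h)
  refine ⟨s, scalar_ne hs, fun u => ?_⟩
  have e : mv (A⁻¹ * B) u = s • u := by rw [mv, hs, Matrix.smul_mulVec, Matrix.one_mulVec]
  rw [← U62.mv_smul, ← e, ← U62.mv_mul, mul_inv_cancel_left]

/-- Elements with related images move the points alike. -/
theorem pi_move {g g' : Fi22.H} (h : θ g' = α (θ g)) {c : Fin 3510} (hc : inO (c : ℕ) = true) :
    hm (g' : G₀) (piP c) = piP (hm (g : G₀) c) := by
  obtain ⟨A, hA⟩ := U62.exists_rel g.2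
  obtain ⟨A', hA'⟩ := U62.exists_rel g'.2
  rw [U62.θ_eq hA, U62.θ_eq hA', α_mk] at h
  obtain ⟨k, hk, hAk⟩ := exists_scalar h.symm
  obtain ⟨hgc, s, hs, e⟩ := hA c hc
  obtain ⟨hpc, -, t, ht, et⟩ := piP_spec hc
  obtain ⟨hpgc, -, r, hr, er⟩ := piP_spec hgc
  obtain ⟨hg', u, hu, eu⟩ := hA' (piP c) hpc
  have hcancel : (fun i => dc 3 i * (dc 2 i * of6 (pointOf c) i)) = of6 (pointOf c) := funext fun i => by
    rw [← mul_assoc, (dc_mul i).2.1, one_mul]
  have h1 : mv (αS A) (fun i => dc 2 i * of6 (pointOf c) i) =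
      (s * r) • of6 (pointOf (piP (Setup.hom Fi22B.setup (g : G₀) c) : Fin 3510)) := by
    rw [mv_αS, hcancel, e, ← smul_smul, ← er]
    funext i
    simp only [Pi.smul_apply, smul_eq_mul]
    ring
  rw [et, U62.mv_smul] at h1
  have h2 : mv A' (of6 (pointOf (piP c : ℕ))) = (k * t⁻¹ * (s * r)) •
      of6 (pointOf (piP (Setup.hom Fi22B.setup (g : G₀) c) : Fin 3510)) := by
    rw [hAk, mul_assoc, ← smul_smul, ← smul_smul t⁻¹, ← h1, smul_smul t⁻¹, inv_mul_cancel₀ ht, one_smul]
  rw [eu] at h2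
  have h3 := congrArg (fun v => u⁻¹ • v) h2
  simp only [smul_smul, inv_mul_cancel₀ hu, one_smul] at h3
  exact Fin.ext (point_inj (Fin.isLt _) (Fin.isLt _) hg' hpgc
    (mul_ne_zero (inv_ne_zero hu) (mul_ne_zero (mul_ne_zero hk (inv_ne_zero ht)) (mul_ne_zero hs hr))) h3)

/-- Elements with one image act alike on the points. -/
theorem act_congr {g g' : Fi22.H} (h : θ g = θ g') {c : Fin 3510} (hc : inO (c : ℕ) = true) :
    hm (g : G₀) c = hm (g' : G₀) c := by
  obtain ⟨A, hA⟩ := U62.exists_rel g.2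
  obtain ⟨A', hA'⟩ := U62.exists_rel g'.2
  rw [U62.θ_eq hA, U62.θ_eq hA'] at h
  obtain ⟨k, hk, hAk⟩ := exists_scalar h
  obtain ⟨h1, s, hs, e⟩ := hA c hc
  obtain ⟨h2, t, ht, e'⟩ := hA' c hc
  rw [hAk, e, smul_smul] at e'
  have h3 := congrArg (fun v => t⁻¹ • v) e'
  simp only [smul_smul, inv_mul_cancel₀ ht, one_smul] at h3
  exact (Fin.ext (point_inj (Fin.isLt _) (Fin.isLt _) h2 h1
    (mul_ne_zero (inv_ne_zero ht) (mul_ne_zero hk hs)) h3.symm)).symm

/-- The word of the image of the first transvection. -/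
noncomputable def p7W : List ℕ := Fi22Local.trW (piN' 7)

theorem p7_ok : (Fi22Local.wok p7W && (List.range 7).all fun j =>
    scEq (dN 2 (U62.mulN (U62.mats.getD 1 []) (dN 3 (pointOf (U62.frame.getD j 0)))))
      (pointOf (tact Fi22B.P p7W (U62.frame.getD j 0)))) = true := by decide +kernel

theorem frame_in : ((List.range 7).all fun j => Nat.blt (U62.frame.getD j 0) 3510 && inO (U62.frame.getD j 0)) = true := by
  decide +kernel

theorem trH_p7 : trH p7 = hgH 1 := Subtype.ext (by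
  rw [Mult6.coe_trH U62.inO_p7, U62.coe_hgH (show (1 : ℕ) < 9 by norm_num), Mult6.tr_p7, Mult6.gen_two_eq])

theorem α_trQ_p7 : α (trQ p7) = trQ (piP p7) := by
  have hpi := piP_spec U62.inO_p7
  have h7 : ((p7 : Fin 3510) : ℕ) = 7 := rfl
  have hv7 : (piP p7 : ℕ) = piN' 7 := by rw [hpi.2.1, h7]
  have hword : (trH (piP p7) : G₀) = Fi22Local.el p7W := by
    rw [Mult6.coe_trH hpi.1, p7W, show Fi22Local.el (Fi22Local.trW (piN' 7)) = Fi22Local.trN (piN' 7) from rfl,
      Fi22Local.trN_eq (hv7 ▸ (piP p7).2)]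
    congr 1
  obtain ⟨A', hA'⟩ := U62.exists_rel (trH (piP p7)).2
  have h1 : trQ p7 = QuotientGroup.mk' (Subgroup.center SU6) (U62.gen 1) := by
    rw [trQ, trH_p7]
    exact U62.θ_eq (g := hgH 1) (A := U62.gen 1) (by
      rw [U62.coe_hgH (show (1 : ℕ) < 9 by norm_num)]; exact U62.rel_gen (by norm_num))
  rw [h1, α_mk, trQ, U62.θ_eq hA']
  refine (QuotientGroup.eq.2 ?_)
  obtain ⟨s, -, hs⟩ := U62.scalar_of_frame ((αS (U62.gen 1))⁻¹ * A') fun j hj => by
    have hf := List.all_eq_true.1 frame_in j (List.mem_range.2 hj)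
    rw [Bool.and_eq_true, Nat.blt_eq] at hf
    obtain ⟨-, u, hu, eu⟩ := hA' ⟨_, hf.1⟩ hf.2
    have hk := p7_ok
    rw [Bool.and_eq_true] at hk
    have hsc := List.all_eq_true.1 hk.2 j (List.mem_range.2 hj)
    obtain ⟨v, hv, ev⟩ := U62.scEq_spec hsc
    have hmv : mv (αS (U62.gen 1)) (of6 (pointOf (U62.frame.getD j 0))) =
        v • of6 (pointOf (tact Fi22B.P p7W (U62.frame.getD j 0))) := by
      rw [← ev, mv_αS, of6_dN 2 (by norm_num), ← U62.mv_gen (by norm_num : 1 < 9), of6_dN 3 (by norm_num)]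
    have himg : (hm (trH (piP p7) : G₀) ⟨_, hf.1⟩ : ℕ) = tact Fi22B.P p7W (U62.frame.getD j 0) := by
      rw [hword, ← Fi22Local.apt_of_lt _ hf.1]
      exact Fi22Local.apt_el hk.1 hf.1
    change mv A' (of6 (pointOf (U62.frame.getD j 0))) = u • of6 (pointOf (hm (trH (piP p7) : G₀) ⟨_, hf.1⟩ : ℕ)) at eu
    rw [himg] at eu
    refine ⟨u * v⁻¹, mul_ne_zero hu (inv_ne_zero hv), ?_⟩
    have e3 := congrArg (fun w => v⁻¹ • mv (αS (U62.gen 1))⁻¹ w) hmv
    simp only [← U62.mv_mul, inv_mul_cancel, U62.mv_one, U62.mv_smul, smul_smul] at e3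
    rw [inv_mul_cancel₀ hv, one_smul] at e3
    rw [U62.mv_mul, eu, U62.mv_smul, ← e3, smul_smul]
  exact U62.mem_center_of_scalar hs

theorem trQ_conj {g : Fi22.H} {c : Fin 3510} (hc : inO (c : ℕ) = true) :
    trQ (hm (g : G₀) c) = θ g * trQ c * (θ g)⁻¹ := by
  rw [trQ, Mult6.trH_hm hc, map_mul, map_mul, map_inv]; rfl

theorem α_trQ {c : Fin 3510} (hc : inO (c : ℕ) = true) : α (trQ c) = trQ (piP c) := by
  obtain ⟨g, hg, rfl⟩ := U62.exists_move hc
  obtain ⟨g', hg'⟩ := U62.surjective (α (θ ⟨g, hg⟩))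
  rw [trQ_conj (g := ⟨g, hg⟩) U62.inO_p7, map_mul, map_mul, map_inv, α_trQ_p7, ← hg',
    ← pi_move (g := ⟨g, hg⟩) hg' U62.inO_p7, trQ_conj (piP_spec U62.inO_p7).1]

theorem pi_equivariant {a b : Fin 3510} (ha : inO (a : ℕ) = true) (hb : inO (b : ℕ) = true) :
    piP (hm (tr a) b) = hm (tr (piP a)) (piP b) := by
  have h := pi_move (g := trH a) (g' := trH (piP a)) (α_trQ ha).symm hb
  rw [Mult6.coe_trH ha, Mult6.coe_trH (piP_spec ha).1] at h
  exact h.symm

end Cfsg.Agent.U62Cover
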